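import Mathlib.Tactic.FieldSimp
import Mathlib.Tactic.Ring
import Mathlib.Tactic.Linarith
import Mathlib.Tactic.LinearCombination
import Mathlib.Algebra.Field.Rat
import Mathlib.Algebra.Order.Field.Rat
import Mathlib.Data.Rat.Cast.Lemmas

/-!
The algebra of the forms.
-/

set_option autoImplicit false

namespace Cfsg.Agent.AltNine.Core

/-- The three equations of a vector `1 + a + c + w`, after completing squares. -/
theorem pair {X Y ρ σ β α g a b c : ℚ} (hX : X ≠ 0) (hY : Y ≠ 0) (h1 : 1 + X + Y ≠ 0) (hg : g ≠ 0)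
    (hdet : 0 < a * c - b * b)
    (eaa : (ρ * X + β) ^ 2 / X + ρ ^ 2 * Y - (ρ * (X + Y) + β) ^ 2 / (1 + X + Y) = g * a)
    (eat : (ρ * X + β) * σ + ρ * (σ * Y + α) -
      (ρ * (X + Y) + β) * (σ * (X + Y) + α) / (1 + X + Y) = g * b)
    (ett : σ ^ 2 * X + (σ * Y + α) ^ 2 / Y - (σ * (X + Y) + α) ^ 2 / (1 + X + Y) = g * c) :
    X + Y ≠ 0 ∧
      (ρ * (X + Y) + β) ^ 2 = (1 + X + Y) * (g * a * (X + Y) - β ^ 2 * Y / X) ∧
      (σ * (X + Y) + α) ^ 2 = (1 + X + Y) * (g * c * (X + Y) - α ^ 2 * X / Y) ∧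
      (ρ * (X + Y) + β) * (σ * (X + Y) + α) = (1 + X + Y) * (g * b * (X + Y) + α * β) := by
  refine ⟨fun h0 => ?_, ?_, ?_, ?_⟩
  · have e : ((ρ * X + β) * (σ * Y + α) - ρ * Y * (σ * X)) ^ 2 =
        X * Y * (1 + X + Y) * (g * a * (g * c) - g * b * (g * b)) := by
      rw [← eaa, ← eat, ← ett]
      field_simp
      ring
    rw [show Y = -X by linarith, show 1 + X + -X = (1 : ℚ) by ring,
      show g * a * (g * c) - g * b * (g * b) = g ^ 2 * (a * c - b * b) by ring] at e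
    have h2 : 0 < X ^ 2 * (g ^ 2 * (a * c - b * b)) :=
      mul_pos (by positivity) (mul_pos (by positivity) hdet)
    nlinarith [sq_nonneg ((ρ * X + β) * (σ * -X + α) - ρ * -X * (σ * X))]
  · rw [← eaa]
    field_simp
    ring
  · rw [← ett]
    field_simp
    ring
  · rw [← eat]
    field_simp
    ring

/-- What the first three vectors give. -/
structure Sol (D2 D3 D4 D8 D12 ρ σ α β g : ℚ) : Prop where
  e8 : D8 = D3 + D4
  e12 : D12 = D2 + D8
  a0 : α ≠ 0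
  b0 : β ≠ 0
  T0 : D2 + D3 ≠ 0
  rel : 5 * (D2 * D4) = (D2 + D3) * D8
  four : D3 * D12 = 4 * (D2 * D4)
  ab : α * β = -(6 / 5) * g * (D2 + D3)
  aD : α * D12 = -2 * D4 * β
  bsq : β ^ 2 * D4 = 3 / 5 * g * (D2 + D3) * D12
  asq : α ^ 2 * D2 = 3 / 5 * g * (D2 + D3) * D3
  p2 : (ρ * (D2 + D3) + β) ^ 2 = (1 + D2 + D3) * g * (3 / 5 * (D2 + D3))
  lin : σ * (D2 + D3) + α = 3 * (ρ * (D2 + D3) + β)

theorem exists_sol {D2 D3 D4 D8 D12 ρ σ α β g : ℚ} (h2 : D2 ≠ 0) (h3 : D3 ≠ 0) (h4 : D4 ≠ 0)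
    (h8 : D8 ≠ 0) (h12 : D12 ≠ 0) (h1 : 1 + D2 + D3 ≠ 0) (hg : g ≠ 0) (e8 : D8 = D3 + D4)
    (e12 : D12 = D2 + D8) (eA : α ^ 2 * D8 / (D3 * D4) = g * 3) (eB : β ^ 2 * D8 / (D2 * D12) = g * 3)
    (caa : (ρ * D2 + β) ^ 2 / D2 + ρ ^ 2 * D3 - (ρ * (D2 + D3) + β) ^ 2 / (1 + D2 + D3) = g * 3)
    (cat : (ρ * D2 + β) * σ + ρ * (σ * D3 + α) -
      (ρ * (D2 + D3) + β) * (σ * (D2 + D3) + α) / (1 + D2 + D3) = g * 3)
    (ctt : σ ^ 2 * D2 + (σ * D3 + α) ^ 2 / D3 - (σ * (D2 + D3) + α) ^ 2 / (1 + D2 + D3) = g * 6) :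
    Sol D2 D3 D4 D8 D12 ρ σ α β g := by
  obtain ⟨T0, hp, hq, hpq⟩ := pair h2 h3 h1 hg (by norm_num) caa cat ctt
  field_simp at eA eB
  have a0 : α ≠ 0 := fun e => mul_ne_zero (mul_ne_zero hg three_ne_zero) (mul_ne_zero h3 h4) (by
    subst e; linear_combination -eA)
  have b0 : β ≠ 0 := fun e => mul_ne_zero (mul_ne_zero hg three_ne_zero) (mul_ne_zero h2 h12) (by
    subst e; linear_combination -eB)
  set R := 3 * D2 * D4 / D8 with hR
  have hA : α ^ 2 * D2 / D3 = g * R := by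
    rw [hR]
    field_simp
    linear_combination eA
  have hB : β ^ 2 * D3 / D2 = g * (3 * (D2 + D3) - R) := by
    rw [hR]
    field_simp
    subst e12 e8
    linear_combination D3 * eB
  rw [hB] at hp
  rw [hA] at hq
  have hS : (α * β) ^ 2 = g ^ 2 * R * (3 * (D2 + D3) - R) := by
    rw [show g ^ 2 * R * (3 * (D2 + D3) - R) = (g * R) * (g * (3 * (D2 + D3) - R)) by ring, ← hA, ← hB]
    field_simp
  set T := D2 + D3 with hT
  have h5 : T * g * (3 * g * R - 9 * g * T - 6 * (α * β)) = 0 := by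
    refine mul_left_cancel₀ (pow_ne_zero 2 h1) ?_
    linear_combination (ρ * T + β) * (σ * T + α) * hpq -
      (σ * T + α) ^ 2 * hp - (1 + D2 + D3) * (g * R) * hq +
      (1 + D2 + D3) * (g * 3 * T + α * β) * hpq + (1 + D2 + D3) ^ 2 * hS
  have hab : 2 * (α * β) = g * (R - 3 * T) := by
    have := (mul_eq_zero.mp h5).resolve_left (mul_ne_zero T0 hg)
    linarith
  have h6 : g ^ 2 * ((3 * T - R) * (3 * T - 5 * R)) = 0 := by
    linear_combination 4 * hS - (2 * (α * β) + g * (R - 3 * T)) * hab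
  have hR5 : 3 * T = 5 * R := by
    rcases mul_eq_zero.mp ((mul_eq_zero.mp h6).resolve_left (pow_ne_zero 2 hg)) with e | e
    · exfalso
      refine mul_ne_zero a0 b0 ?_
      linear_combination (1 / 2 : ℚ) * hab - (g / 2) * e
    · linarith
  have rel : 5 * (D2 * D4) = T * D8 := by
    rw [hR] at hR5
    field_simp at hR5
    linear_combination -hR5
  have four : D3 * D12 = 4 * (D2 * D4) := by
    rw [hT] at rel
    subst e12 e8
    linear_combination -rel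
  have hab' : α * β = -(6 / 5) * g * T := by linear_combination (1 / 2 : ℚ) * hab - (g / 10) * hR5
  have hbsq : β ^ 2 * D4 = 3 / 5 * g * T * D12 := by
    refine mul_left_cancel₀ h8 ?_
    linear_combination D4 * eB + (3 / 5 * g * D12) * rel
  refine ⟨e8, e12, a0, b0, T0, rel, four, hab', ?_, hbsq, ?_, ?_, ?_⟩
  · refine mul_left_cancel₀ b0 ?_
    linear_combination D12 * hab' + 2 * hbsq
  · refine mul_left_cancel₀ h8 ?_
    linear_combination D2 * eA + (3 / 5 * g * D3) * rel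
  · linear_combination hp + (1 + D2 + D3) * (g / 5) * (-4 * hR5) +
      (1 + D2 + D3) * g * (3 / 5 : ℚ) * hR5
  · have hpp : (ρ * T + β) * ((σ * T + α) - 3 * (ρ * T + β)) = 0 := by
      linear_combination hpq - 3 * hp + (1 + D2 + D3) * hab' + (1 + D2 + D3) * (3 * g / 5) * hR5
    have hp0 : ρ * T + β ≠ 0 := fun e => by
      rw [e] at hp
      have : (1 + D2 + D3) * (g * (3 * T)) = 0 := by
        linear_combination -5 * hp + (1 + D2 + D3) * g * hR5
      simp [h1, hg, T0] at this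
    exact sub_eq_zero.mp ((mul_eq_zero.mp hpp).resolve_left hp0)

/-- The second arrangement. -/
theorem config_two {D2 D3 D4 D8 D12 ρ σ α β g : ℚ} (S : Sol D2 D3 D4 D8 D12 ρ σ α β g)
    (h2 : D2 ≠ 0) (h3 : D3 ≠ 0) (h1 : 1 + -D2 + D3 ≠ 0) (hg : g ≠ 0)
    (eaa : (ρ * -D2 + -β) ^ 2 / -D2 + ρ ^ 2 * D3 - (ρ * (-D2 + D3) + -β) ^ 2 / (1 + -D2 + D3) =
      g * (3 / 2))
    (eat : (ρ * -D2 + -β) * σ + ρ * (σ * D3 + α) -
      (ρ * (-D2 + D3) + -β) * (σ * (-D2 + D3) + α) / (1 + -D2 + D3) = g * (3 / 2))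
    (ett : σ ^ 2 * -D2 + (σ * D3 + α) ^ 2 / D3 - (σ * (-D2 + D3) + α) ^ 2 / (1 + -D2 + D3) =
      g * (9 / 2)) : ρ = 0 := by
  obtain ⟨T0', hp, hq, hpq⟩ := pair (neg_ne_zero.mpr h2) h3 h1 hg (by norm_num) eaa eat ett
  obtain ⟨e8, e12, a0, b0, T0, rel, four, hab, aD, bsq, asq, p2, lin⟩ := S
  set R := 3 / 5 * (D2 + D3) with hR
  set T := -D2 + D3 with hT
  have h4 : D4 ≠ 0 := fun e => by
    rw [e, mul_zero, mul_zero, mul_eq_zero] at four
    rcases four with f | f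
    · exact h3 f
    · rw [f, e] at aD
      rw [e] at e8
      have : D2 + D3 = 0 := by linarith
      exact T0 this
  have h12 : D12 ≠ 0 := fun e => by
    rw [e, mul_zero] at four
    simp [h2, h4] at four
  have hb' : β ^ 2 * D3 = 4 * g * R * D2 := by
    refine mul_left_cancel₀ h12 ?_
    rw [hR]
    linear_combination β ^ 2 * four + 4 * D2 * bsq
  have hB : (-β) ^ 2 * D3 / -D2 = -(g * (4 * R)) := by
    field_simp
    linear_combination -hb'
  have hA : α ^ 2 * -D2 / D3 = -(g * R) := by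
    rw [hR]
    field_simp
    linear_combination -5 * asq
  rw [hB] at hp
  rw [hA] at hq
  have hab' : α * -β = 2 * (g * R) := by rw [hR]; linear_combination -hab
  rw [hab'] at hpq
  have h5 : g ^ 2 * T * (9 / 2 * T + 27 / 2 * R) = 0 := by
    refine mul_left_cancel₀ (pow_ne_zero 2 h1) ?_
    linear_combination (ρ * T + -β) * (σ * T + α) * hpq - (σ * T + α) ^ 2 * hp -
      (1 + -D2 + D3) * (g * (3 / 2) * T + g * (4 * R)) * hq +
      (1 + -D2 + D3) * (g * (3 / 2) * T + 2 * (g * R)) * hpq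
  have hT3 : T = -3 * R := by
    linarith [(mul_eq_zero.mp h5).resolve_left (mul_ne_zero (pow_ne_zero 2 hg) T0')]
  have hP0 : ρ * T + -β ≠ 0 := fun e => by
    rw [e] at hp
    have : (1 + -D2 + D3) * (g * R) = 0 := by
      linear_combination 2 * hp + (1 + -D2 + D3) * g * 3 * hT3
    rw [hR] at this
    simp [h1, hg, T0] at this
  have hPQ : σ * T + α = 5 * (ρ * T + -β) := by
    refine sub_eq_zero.mp ((mul_eq_zero.mp (?_ : (ρ * T + -β) *
      (σ * T + α - 5 * (ρ * T + -β)) = 0)).resolve_left hP0)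
    linear_combination hpq - 5 * hp - (1 + -D2 + D3) * g * 6 * hT3
  -- now everything is proportional
  have k1 : D2 = -7 / 2 * D3 := by rw [hT, hR] at hT3; linarith
  have k4 : D4 = D3 / 6 := by
    subst e8 k1
    refine mul_left_cancel₀ (mul_ne_zero (show (-15 : ℚ) ≠ 0 by norm_num) h3) ?_
    linear_combination rel
  have k12 : D12 = -7 / 3 * D3 := by rw [e12, e8, k1, k4]; ring
  have kα : α = β / 7 := by
    refine mul_left_cancel₀ h12 ?_
    subst k4 k12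
    linear_combination aD
  rw [hT, k1, kα] at hPQ
  rw [k1, kα] at lin
  have : ρ * D3 = 0 := by linear_combination (-1 / 9 : ℚ) * hPQ - (1 / 5 : ℚ) * lin
  exact (mul_eq_zero.mp this).resolve_right h3

/-- The standard arrangement gives the kernel. -/
theorem config_std {D2 D3 D4 D8 D12 : ℤ} {ρ σ α β g : ℚ}
    (S : Sol (D2 : ℚ) D3 D4 D8 D12 ρ σ α β g)
    (h4 : D4 ≠ 0) (h12 : D12 ≠ 0) (h1 : 1 + (D12 : ℚ) + D4 ≠ 0) (h1' : 1 + (D2 : ℚ) + D3 ≠ 0)
    (hg : g ≠ 0)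
    (eaa : (ρ * D12 + β) ^ 2 / (D12 : ℚ) + ρ ^ 2 * D4 -
      (ρ * (D12 + D4) + β) ^ 2 / (1 + D12 + D4) = g * (3 / 2))
    (eat : (ρ * D12 + β) * σ + ρ * (σ * D4 + -α) -
      (ρ * (D12 + D4) + β) * (σ * (D12 + D4) + -α) / (1 + D12 + D4) = g * (3 / 2))
    (ett : σ ^ 2 * D12 + (σ * D4 + -α) ^ 2 / (D4 : ℚ) -
      (σ * (D12 + D4) + -α) ^ 2 / (1 + D12 + D4) = g * (9 / 2)) :
    ρ * D2 + β = 0 := by
  have h4' : (D4 : ℚ) ≠ 0 := by exact_mod_cast h4
  have h12' : (D12 : ℚ) ≠ 0 := by exact_mod_cast h12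
  obtain ⟨T0', hp, hq, hpq⟩ := pair h12' h4' h1 hg (by norm_num) eaa eat ett
  obtain ⟨e8, e12, a0, b0, T0, rel, four, hab, aD, bsq, asq, p2, lin⟩ := S
  set R : ℚ := 3 / 5 * (D2 + D3) with hR
  set T : ℚ := D12 + D4 with hT
  have hB : β ^ 2 * D4 / D12 = g * R := by
    rw [hR]
    field_simp
    linear_combination 5 * bsq
  have hA : (-α) ^ 2 * D12 / D4 = g * (4 * R) := by
    rw [hR]
    field_simp
    linear_combination 5 * α * aD - 10 * D4 * hab
  rw [hB] at hp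
  rw [hA] at hq
  have hab' : -α * β = 2 * (g * R) := by rw [hR]; linear_combination -hab
  rw [hab'] at hpq
  have h5 : g ^ 2 * T * (9 / 2 * T - 33 / 2 * R) = 0 := by
    refine mul_left_cancel₀ (pow_ne_zero 2 h1) ?_
    linear_combination (ρ * T + β) * (σ * T + -α) * hpq - (σ * T + -α) ^ 2 * hp -
      (1 + (D12 : ℚ) + D4) * (g * (3 / 2) * T - g * R) * hq +
      (1 + (D12 : ℚ) + D4) * (g * (3 / 2) * T + 2 * (g * R)) * hpq
  have hT3 : 3 * T = 11 * R := by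
    linarith [(mul_eq_zero.mp h5).resolve_left (mul_ne_zero (pow_ne_zero 2 hg) T0')]
  have hP0 : ρ * T + β ≠ 0 := fun e => by
    rw [e] at hp
    have : (1 + (D12 : ℚ) + D4) * (g * R) = 0 := by
      linear_combination (-2 / 9 : ℚ) * hp - (1 + (D12 : ℚ) + D4) * g * (1 / 9) * hT3
    rw [hR] at this
    simp [h1, hg, T0] at this
  have hPQ : 3 * (σ * T + -α) = 5 * (ρ * T + β) := by
    refine sub_eq_zero.mp ((mul_eq_zero.mp (?_ : (ρ * T + β) *
      (3 * (σ * T + -α) - 5 * (ρ * T + β)) = 0)).resolve_left hP0)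
    linear_combination 3 * hpq - 5 * hp - (1 + (D12 : ℚ) + D4) * g * hT3
  obtain ⟨k, hk⟩ : ∃ k, α = k * β := ⟨α / β, by field_simp⟩
  subst hk
  have hTT : T = 11 / 5 * (D2 + D3) := by rw [hR] at hT3; linarith
  rw [hTT] at hPQ hp hpq
  have hX : 22 * (ρ * (D2 + D3)) = 24 * (k * β) - 37 * β := by
    linear_combination (5 / 2 : ℚ) * hPQ - (33 / 2 : ℚ) * lin
  have hgR : g * R = -(k * β * β) / 2 := by rw [hR]; linear_combination (1 / 2 : ℚ) * hab
  have q1 : 9 * (8 * k - 5) ^ 2 = -(242 * k) * (1 + D2 + D3) := by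
    refine mul_left_cancel₀ (pow_ne_zero 2 b0) ?_
    linear_combination 484 * p2 + 484 * (1 + (D2 : ℚ) + D3) * hgR -
      (22 * (ρ * (D2 + D3) + β) + 3 * β * (8 * k - 5)) * hX
  have q2 : (8 * k - 9) ^ 2 = -(25 * k) * (1 + T) := by
    refine mul_left_cancel₀ (pow_ne_zero 2 b0) ?_
    have e : (D12 : ℚ) + D4 = 11 / 5 * (D2 + D3) := hT.symm.trans hTT
    rw [hTT]
    linear_combination (100 / 9 : ℚ) * hp + 50 * (1 + (D12 : ℚ) + D4) * hgR +
      -25 * k * β ^ 2 * e - (550 / 9 : ℚ) * (1 + (D12 : ℚ) + D4) * g * hR -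
      ((10 * (ρ * (11 / 5 * (D2 + D3)) + β) + 3 * β * (8 * k - 9)) / 9) * hX
  have q3 : (4 * k + 3) * (368 * k - 219) = 0 := by
    rw [hTT] at q2
    linear_combination 5 * q1 - 22 * q2
  rcases mul_eq_zero.mp q3 with hk | hk
  swap
  · exfalso
    have e : k = 219 / 368 := by linarith
    rw [e] at q1
    have : 9 * 121 * 368 = -(242 * 219 * 2116) * (1 + (D2 : ℚ) + D3) := by
      linear_combination (2116 * 368 : ℚ) * q1
    have : 9 * 121 * 368 = -(242 * 219 * 2116) * (1 + D2 + D3) := by exact_mod_cast this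
    omega
  have e : k = -(3 / 4) := by linarith
  subst e
  have hT5 : (D2 : ℚ) + D3 = 5 := by linarith
  have hD : 3 * (D12 : ℚ) = 8 * D4 := by
    refine mul_left_cancel₀ b0 ?_
    linear_combination -4 * aD
  have hD4 : (D4 : ℚ) = 3 := by rw [hT] at hTT; linarith
  have hD2 : (D2 : ℚ) = 2 := by
    rw [hD4] at four hD
    have : (D12 : ℚ) = 8 := by linarith
    rw [this] at four
    linarith
  rw [hD2]
  rw [hT5] at hX
  linarith

/-- The third arrangement. -/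
theorem config_three {D2 D3 D4 D8 D12 : ℤ} {ρ σ α β g : ℚ}
    (S : Sol (D2 : ℚ) D3 D4 D8 D12 ρ σ α β g)
    (h1 : 1 + (D2 : ℚ) + D3 ≠ 0) (ed : 1 + D3 + D12 + (1 + D2 + D3) = 0)
    (eu : ρ * D3 + (ρ * D12 + β) + (ρ * (D2 + D3) + β) = 0)
    (ew : σ * D3 + α + σ * D12 + (σ * (D2 + D3) + α) = 0) : False := by
  obtain ⟨e8, e12, a0, b0, T0, rel, four, hab, aD, bsq, asq, p2, lin⟩ := S
  have ed' : 1 + (D3 : ℚ) + D12 + (1 + D2 + D3) = 0 := by exact_mod_cast ed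
  obtain rfl : β = ρ := by linear_combination (1 / 2 : ℚ) * eu - (ρ / 2) * ed'
  obtain rfl : α = σ := by linear_combination (1 / 2 : ℚ) * ew - (σ / 2) * ed'
  have h3 : α = 3 * β := by
    refine mul_left_cancel₀ h1 ?_
    linear_combination lin
  subst h3
  have : β ^ 2 * (1 + D2 + D3) * (2 * (1 + D2 + D3) + 3 : ℚ) = 0 := by
    linear_combination 2 * p2 + (1 + (D2 : ℚ) + D3) * hab
  have h5 : (2 * (1 + D2 + D3) + 3 : ℚ) = 0 := by simpa [b0, h1] using this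
  have : 2 * (1 + D2 + D3) + 3 = 0 := by exact_mod_cast h5
  omega

end Cfsg.Agent.AltNine.Core
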