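import Cfsg.Agent.Lib.Recog.NineD8.Arith
import Cfsg.Agent.Lib.Recog.AltNine.Core

/-!
The arrangements of the constituents: one of them must have the first involution in its kernel.
-/

set_option autoImplicit false
set_option linter.unusedSectionVars false

namespace Cfsg.Agent.AltNine.Arith

open NineD8.Arith (Four Vec Forms exists_four signed_ne small_mul eq_of_prod_one eq_of_prod_neg
  eq_of_prod_zero three_sum)
open ThreeCubed.Arith (rest_one rest_sum sum_three entries_small)

universe u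

variable {I : Type u} [Fintype I] [DecidableEq I] {t : I} {d : I → ℤ} {m : I → ℤ}

/-- A vector with three constituents. -/
structure Three (m : I → ℤ) (p q r : I) : Prop where
  npq : p ≠ q
  npr : p ≠ r
  nqr : q ≠ r
  hp : m p = 1 ∨ m p = -1
  hq : m q = 1 ∨ m q = -1
  hr : m r = 1 ∨ m r = -1
  hz : ∀ k, k ≠ p → k ≠ q → k ≠ r → m k = 0

variable {p q r : I}

theorem Three.swap12 (h : Three m p q r) : Three m q p r :=
  ⟨h.npq.symm, h.nqr, h.npr, h.hq, h.hp, h.hr, fun k a b c => h.hz k b a c⟩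

theorem Three.swap23 (h : Three m p q r) : Three m p r q :=
  ⟨h.npr, h.npq, h.nqr.symm, h.hp, h.hr, h.hq, fun k a b c => h.hz k a c b⟩

theorem Three.neg (h : Three m p q r) : Three (fun k => -m k) p q r :=
  ⟨h.npq, h.npr, h.nqr, by rcases h.hp with e | e <;> simp [e], by
    rcases h.hq with e | e <;> simp [e], by rcases h.hr with e | e <;> simp [e],
    fun k a b c => by simp [h.hz k a b c]⟩

theorem Three.ne (h : Three m p q r) : m p ≠ 0 := by rcases h.hp with e | e <;> omega

theorem Three.sum_eq {R : Type*} [AddCommMonoid R] (h : Three m p q r) (φ : I → R)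
    (hφ : ∀ k, m k = 0 → φ k = 0) : ∑ k, φ k = φ p + φ q + φ r :=
  sum_three h.npq h.npr h.nqr h.hz φ hφ

theorem exists_ne3 (h : ∑ k, m k * m k = 3) (T : Finset I) (hT : ∑ k ∈ T, m k * m k < 3) :
    ∃ k, k ∉ T ∧ m k ≠ 0 := by
  obtain ⟨k, hk, hne⟩ := Finset.exists_ne_zero_of_sum_ne_zero (s := Tᶜ) (f := fun k => m k * m k)
    (by rw [rest_sum, h]; omega)
  exact ⟨k, Finset.mem_compl.mp hk, left_ne_zero_of_mul hne⟩

theorem exists_three (h : ∑ k, m k * m k = 3) {p : I} (hp : m p ≠ 0) : ∃ q r, Three m p q r := by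
  have hp1 := (entries_small h p).resolve_left hp
  obtain ⟨q, hq, hq0⟩ := exists_ne3 h {p} (by
    rw [Finset.sum_singleton]
    rcases hp1 with e | e <;> rw [e] <;> norm_num)
  simp only [Finset.mem_singleton] at hq
  have hq1 := (entries_small h q).resolve_left hq0
  obtain ⟨r, hr, h1, hz⟩ := rest_one (m := m) (T := {p, q}) (c := 2) (by
    rw [Finset.sum_pair (Ne.symm hq)]
    rcases hp1 with e | e <;> rcases hq1 with e' | e' <;> rw [e, e'] <;> norm_num)
    (by rw [h]; norm_num)
  simp only [Finset.mem_insert, Finset.mem_singleton, not_or] at hr hz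
  exact ⟨q, r, Ne.symm hq, Ne.symm hr.1, Ne.symm hr.2, hp1, hq1, h1, fun k a b c => hz k ⟨a, b⟩ c⟩

theorem exists_some (h : ∑ k, m k * m k = 3) : ∃ p q r, Three m p q r := by
  obtain ⟨p, -, hp⟩ := exists_ne3 h ∅ (by simp)
  exact ⟨p, exists_three h hp⟩

/-- A vector with trivial part meets a vector with three constituents in one of them. -/
theorem one_common {A : I → ℤ} (hd : ∀ k, 0 < d k) (hdt : d t = 1) (hA : Three A p q r)
    (hAt : A t = 0) (hAd : ∑ k, A k * d k = 0) (hm : Vec d m) (hmt : m t = 1)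
    (hdot : ∑ k, m k * A k = 1) :
    (m p * A p = 1 ∧ m q * A q = 0 ∧ m r * A r = 0) ∨
    (m p * A p = 0 ∧ m q * A q = 1 ∧ m r * A r = 0) ∨
    (m p * A p = 0 ∧ m q * A q = 0 ∧ m r * A r = 1) := by
  have bad : ∀ {p q r}, Three A p q r → m p * A p = 1 → m q * A q = 1 → m r * A r = -1 → False := by
    intro p q r hA e1 e2 e3
    have e := hA.sum_eq (fun k => A k * d k) fun k hk => by rw [hk, zero_mul]
    rw [hAd] at e
    obtain ⟨w, hw⟩ := exists_four hm hd (a := p) (b := q) (c := r) hA.npq hA.npr hA.nqr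
      (left_ne_zero_of_mul (e1.trans_ne one_ne_zero))
      (left_ne_zero_of_mul (e2.trans_ne one_ne_zero))
      (left_ne_zero_of_mul (e3.trans_ne (by norm_num)))
    have hwt : w = t := by
      by_contra hne
      have := hw.hz t (fun a => hA.ne (a ▸ hAt)) (fun a => hA.swap12.ne (a ▸ hAt))
        (fun a => hA.swap23.swap12.ne (a ▸ hAt)) (Ne.symm hne)
      omega
    subst hwt
    have e' := hw.dot' d
    rw [hm.deg, hmt, hdt, eq_of_prod_one hA.hp e1, eq_of_prod_one hA.hq e2,
      eq_of_prod_neg hA.hr e3] at e'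
    have e'' : 2 * (A r * d r) = 1 := by linarith
    omega
  have e := hA.sum_eq (fun k => m k * A k) fun k hk => by rw [hk, mul_zero]
  rw [hdot] at e
  rcases three_sum (small_mul (hm.small hd p) hA.hp) (small_mul (hm.small hd q) hA.hq)
    (small_mul (hm.small hd r) hA.hr) e.symm with h | h | h | ⟨a, b, c⟩ | ⟨a, b, c⟩ | ⟨a, b, c⟩
  · exact Or.inl h
  · exact Or.inr (Or.inl h)
  · exact Or.inr (Or.inr h)
  · exact (bad hA a b c).elim
  · exact (bad hA.swap23 a c b).elim
  · exact (bad hA.swap12.swap23 b c a).elim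

/-- The orthogonality of a vector to the values. -/
structure Lin (d u w m : I → ℤ) : Prop where
  deg : ∑ k, m k * d k = 0
  su : ∑ k, m k * u k = 0
  sw : ∑ k, m k * w k = 0

/-- All that is used. -/
structure Data (t : I) (d u w A B C E D : I → ℤ) (a b g : ℚ) : Prop where
  hd : ∀ k, 0 < d k
  hdt : d t = 1
  hut : u t = 0
  hwt : w t = 0
  nA : ∑ k, A k * A k = 3
  nB : ∑ k, B k * B k = 3
  nC : ∑ k, C k * C k = 4
  nE : ∑ k, E k * E k = 4
  nD : ∑ k, D k * D k = 2
  lA : Lin d u w A
  lB : Lin d u w B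
  lC : Lin d u w C
  lE : Lin d u w E
  lD : Lin d u w D
  tA : A t = 0
  tB : B t = 0
  tC : C t = 1
  tE : E t = 1
  AB : ∑ k, A k * B k = -1
  AC : ∑ k, C k * A k = 1
  BC : ∑ k, C k * B k = 1
  AE : ∑ k, E k * A k = 1
  BE : ∑ k, E k * B k = -1
  CE : ∑ k, E k * C k = 1
  AD : ∑ k, D k * A k = 1
  BD : ∑ k, D k * B k = -1
  ED : ∑ k, D k * E k = 0
  hg : g ≠ 0
  ha : a ≠ 0
  fA : Forms d A u w a b g 0 0 3
  fB : Forms d B u w a b g 3 0 0
  fC : Forms d C u w a b g 3 3 6
  fE : Forms d E u w a b g (3 / 2) (3 / 2) (9 / 2)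

/-- The sum `∑ m f f' / d` on three constituents. -/
theorem Three.form (h : Three m p q r) (hd : ∀ k, 0 < d k) (U W : I → ℚ) :
    ∑ k, (m k : ℚ) * U k * W k / (d k : ℚ) =
      (m p * U p) * (m p * W p) / (m p * d p) + (m q * U q) * (m q * W q) / (m q * d q) +
      (m r * U r) * (m r * W r) / (m r * d r) := by
  have ht : ∀ k, (m k = 1 ∨ m k = -1) →
      (m k : ℚ) * U k * W k / d k = (m k * U k) * (m k * W k) / (m k * d k) := by
    intro k hk
    have : (d k : ℚ) ≠ 0 := by exact_mod_cast (hd k).ne'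
    rcases hk with e | e <;> rw [e] <;> push_cast <;> field_simp
  rw [h.sum_eq (fun k => (m k : ℚ) * U k * W k / (d k : ℚ)) fun k hk => by simp [hk],
    ht p h.hp, ht q h.hq, ht r h.hr]

theorem Three.sum_rat (h : Three m p q r) {f : I → ℤ} (hf : ∑ k, m k * f k = 0) (c : ℚ) :
    (m p : ℚ) * (c * f p) + m q * (c * f q) + m r * (c * f r) = 0 := by
  have e := h.sum_eq (fun k => m k * f k) fun k hk => by rw [hk, zero_mul]
  rw [hf] at e
  have e' : ((m p * f p + m q * f q + m r * f r : ℤ) : ℚ) = 0 := by exact_mod_cast e.symm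
  push_cast at e'
  linear_combination c * e'

theorem four_sum_rat {i j k l : I} (h : Four m i j k l) {f : I → ℤ} (hf : ∑ n, m n * f n = 0)
    (c : ℚ) : (m i : ℚ) * (c * f i) + m j * (c * f j) + m k * (c * f k) + m l * (c * f l) = 0 := by
  have e := h.dot' f
  rw [hf] at e
  have e' : ((m i * f i + m j * f j + m k * f k + m l * f l : ℤ) : ℚ) = 0 := by
    exact_mod_cast e.symm
  push_cast at e'
  linear_combination c * e'

/-- A vanishing form on three constituents means proportional values. -/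
theorem Three.ratio (h : Three m p q r) (hd : ∀ k, 0 < d k) {f : I → ℤ}
    (hdeg : ∑ k, m k * d k = 0) (hf : ∑ k, m k * f k = 0) {c : ℚ}
    (hQ : ∑ k, (m k : ℚ) * (c * f k) * (c * f k) / (d k : ℚ) = 0) :
    c * f q * d p = c * f p * d q := by
  rw [h.form hd] at hQ
  have e1 : (m r : ℚ) * d r = -((m p : ℚ) * d p) - m q * d q := by
    linarith [show (m p : ℚ) * (1 * d p) + m q * (1 * d q) + m r * (1 * d r) = 0 from h.sum_rat hdeg 1]
  have e2 : (m r : ℚ) * (c * f r) = -((m p : ℚ) * (c * f p)) - m q * (c * f q) := by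
    linarith [h.sum_rat hf c]
  have hR := signed_ne hd h.hr (k := r)
  have hP := signed_ne hd h.hp (k := p)
  have hQ' := signed_ne hd h.hq (k := q)
  rw [e1] at hR
  rw [e1, e2] at hQ
  have key : ((m p : ℚ) * (c * f p) * (m q * d q) - m q * (c * f q) * (m p * d p)) ^ 2 = 0 := by
    generalize (m p : ℚ) * d p = P at *
    generalize (m q : ℚ) * d q = Q at *
    generalize (m p : ℚ) * (c * f p) = x at *
    generalize (m q : ℚ) * (c * f q) = y at *
    field_simp at hQ
    linear_combination -hQ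
  have k2 : (m p : ℚ) * m q * (c * f q * d p - c * f p * d q) = 0 := by
    linear_combination -((pow_eq_zero_iff two_ne_zero).mp key)
  have hmp : (m p : ℚ) ≠ 0 := left_ne_zero_of_mul hP
  have hmq : (m q : ℚ) ≠ 0 := left_ne_zero_of_mul hQ'
  exact sub_eq_zero.mp ((mul_eq_zero.mp k2).resolve_left (mul_ne_zero hmp hmq))

/-- The equations of a vector `1 + i + j + k`. -/
theorem forms_pair {i j k : I} {u w : I → ℤ} {a b g m11 m12 m22 X Y ρ σ α β : ℚ}
    (h : Four m t i j k) (hd : ∀ k, 0 < d k) (hdt : d t = 1) (hut : u t = 0) (hwt : w t = 0)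
    (hl : Lin d u w m) (hmt : m t = 1) (hF : Forms d m u w a b g m11 m12 m22)
    (eX : (m i : ℚ) * d i = X) (eY : (m j : ℚ) * d j = Y)
    (eUi : (m i : ℚ) * (a * u i) = ρ * X + β) (eWi : (m i : ℚ) * (b * w i) = σ * X)
    (eUj : (m j : ℚ) * (a * u j) = ρ * Y) (eWj : (m j : ℚ) * (b * w j) = σ * Y + α) :
    X ≠ 0 ∧ Y ≠ 0 ∧ 1 + X + Y ≠ 0 ∧
    (ρ * X + β) ^ 2 / X + ρ ^ 2 * Y - (ρ * (X + Y) + β) ^ 2 / (1 + X + Y) = g * m11 ∧
    (ρ * X + β) * σ + ρ * (σ * Y + α) -
      (ρ * (X + Y) + β) * (σ * (X + Y) + α) / (1 + X + Y) = g * m12 ∧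
    σ ^ 2 * X + (σ * Y + α) ^ 2 / Y - (σ * (X + Y) + α) ^ 2 / (1 + X + Y) = g * m22 := by
  have hX : X ≠ 0 := eX ▸ signed_ne hd h.hb
  have hY : Y ≠ 0 := eY ▸ signed_ne hd h.hc
  have e1 : (m k : ℚ) * d k = -(1 + X + Y) := by
    have := four_sum_rat h hl.deg 1
    rw [hmt, hdt] at this
    push_cast at this
    linarith
  have h1 : 1 + X + Y ≠ 0 := fun e => signed_ne hd h.hw (k := k) (by rw [e1, e, neg_zero])
  have e2 : (m k : ℚ) * (a * u k) = -(ρ * (X + Y) + β) := by
    have := four_sum_rat h hl.su a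
    rw [hut, eUi, eUj] at this
    push_cast at this
    linarith
  have e3 : (m k : ℚ) * (b * w k) = -(σ * (X + Y) + α) := by
    have := four_sum_rat h hl.sw b
    rw [hwt, eWi, eWj] at this
    push_cast at this
    linarith
  obtain ⟨f1, f2, f3⟩ := hF
  rw [h.form hd (fun n => a * u n) (fun n => a * u n), hut] at f1
  rw [h.form hd (fun n => a * u n) (fun n => b * w n), hut, hwt] at f2
  rw [h.form hd (fun n => b * w n) (fun n => b * w n), hwt] at f3
  simp only [Int.cast_zero, mul_zero, zero_div, zero_add, eX, eY, eUi, eWi, eUj, eWj, e1, e2, e3]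
    at f1 f2 f3
  refine ⟨hX, hY, h1, ?_, ?_, ?_⟩
  · rw [← f1]; field_simp; ring
  · rw [← f2]; field_simp; ring
  · rw [← f3]; field_simp; ring

variable {d u w A B C E D : I → ℤ} {a b g : ℚ}

/-- One of the constituents of `B` has the involution in its kernel. -/
theorem exists_kernel (S : Data t d u w A B C E D a b g) : ∃ k, B k ≠ 0 ∧ u k = 0 := by
  by_contra hcon
  have hB : ∀ k, B k ≠ 0 → u k ≠ 0 := fun k hk hu => hcon ⟨k, hk, hu⟩
  have vC : Vec d C := ⟨S.nC, S.lC.deg⟩
  have vE : Vec d E := ⟨S.nE, S.lE.deg⟩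
  -- the common constituent of `A` and `B`
  obtain ⟨p, x, y, q, q', hA, hBB, hpp, hBx, hBy, hAq, hAq'⟩ : ∃ p x y q q', Three A p x y ∧
      Three B p q q' ∧ A p = -B p ∧ B x = 0 ∧ B y = 0 ∧ A q = 0 ∧ A q' = 0 := by
    obtain ⟨p, q, r, h⟩ := exists_some S.nA
    have key : ∀ {p x y}, Three A p x y → B p * A p = -1 → B x * A x = 0 → B y * A y = 0 →
        ∃ p x y q q', Three A p x y ∧ Three B p q q' ∧ A p = -B p ∧ B x = 0 ∧ B y = 0 ∧ A q = 0 ∧
          A q' = 0 := by
      intro p x y h e1 e2 e3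
      obtain ⟨q, q', hB'⟩ := exists_three S.nB (left_ne_zero_of_mul (e1.trans_ne (by norm_num)))
      have hx := eq_of_prod_zero h.hq e2
      have hy := eq_of_prod_zero h.hr e3
      have hz : ∀ k, k ≠ p → B k ≠ 0 → A k = 0 := fun k k1 k2 =>
        h.hz k k1 (fun a => k2 (a ▸ hx)) (fun a => k2 (a ▸ hy))
      exact ⟨p, x, y, q, q', h, hB', by linarith [eq_of_prod_neg h.hp e1], hx, hy,
        hz q hB'.npq.symm hB'.swap12.ne, hz q' hB'.npr.symm hB'.swap23.swap12.ne⟩
    have e := h.sum_eq (fun k => B k * A k) fun k hk => by rw [hk, mul_zero]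
    rw [show ∑ k, B k * A k = -1 by rw [← S.AB]; exact Finset.sum_congr rfl fun k _ => mul_comm _ _]
      at e
    have bad : ∀ {p q r}, Three A p q r → B p * A p = -1 → B q * A q = -1 → B r * A r = 1 →
        False := by
      intro p q r h e1 e2 e3
      obtain ⟨q', r', hB'⟩ := exists_three S.nB (left_ne_zero_of_mul (e1.trans_ne (by norm_num)))
      have hB2 : Three B p q r := by
        have n1 : B q ≠ 0 := left_ne_zero_of_mul (e2.trans_ne (by norm_num))
        have n2 : B r ≠ 0 := left_ne_zero_of_mul (e3.trans_ne one_ne_zero)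
        refine ⟨h.npq, h.npr, h.nqr, hB'.hp, (entries_small S.nB q).resolve_left n1,
          (entries_small S.nB r).resolve_left n2, fun k k1 k2 k3 => hB'.hz k k1 ?_ ?_⟩ <;>
          intro hk <;> subst hk
        · exact n2 (hB'.hz r h.npr.symm (Ne.symm k3) (fun e =>
            n1 (hB'.hz q h.npq.symm (Ne.symm k2) (e ▸ h.nqr))))
        · exact n2 (hB'.hz r h.npr.symm (fun e =>
            n1 (hB'.hz q h.npq.symm (e ▸ h.nqr) (Ne.symm k2))) (Ne.symm k3))
      have d1 := h.sum_eq (fun k => A k * d k) fun k hk => by rw [hk, zero_mul]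
      have d2 := hB2.sum_eq (fun k => B k * d k) fun k hk => by rw [hk, zero_mul]
      rw [S.lA.deg] at d1
      rw [S.lB.deg, eq_of_prod_neg h.hp e1, eq_of_prod_neg h.hq e2, eq_of_prod_one h.hr e3] at d2
      have e0 : A r * d r = 0 := by linarith
      have := S.hd r
      rcases mul_eq_zero.mp e0 with e | e
      · rcases h.hr with a | a <;> omega
      · omega
    have sp := small_mul (entries_small S.nB p) h.hp
    have sq := small_mul (entries_small S.nB q) h.hq
    have sr := small_mul (entries_small S.nB r) h.hr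
    rcases three_sum (a := -(B p * A p)) (b := -(B q * A q)) (c := -(B r * A r)) (by omega) (by omega)
      (by omega) (by linarith) with ⟨u, v, z⟩ | ⟨u, v, z⟩ | ⟨u, v, z⟩ | ⟨u, v, z⟩ | ⟨u, v, z⟩ |
      ⟨u, v, z⟩
    · exact key h (by linarith) (by linarith) (by linarith)
    · exact key h.swap12 (by linarith) (by linarith) (by linarith)
    · exact key h.swap23.swap12 (by linarith) (by linarith) (by linarith)
    · exact (bad h (by linarith) (by linarith) (by linarith)).elim
    · exact (bad h.swap23 (by linarith) (by linarith) (by linarith)).elim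
    · exact (bad h.swap12.swap23 (by linarith) (by linarith) (by linarith)).elim
  have hBd := S.lB.deg
  have hBneg : ∑ k, -B k * d k = 0 := by simp [hBd]
  -- the vector `C`
  obtain ⟨x, y, q, q', hA, hBB, hBx, hBy, hAq, hAq', cx, cy, cq, cq', cp⟩ :
      ∃ x y q q', Three A p x y ∧ Three B p q q' ∧ B x = 0 ∧ B y = 0 ∧ A q = 0 ∧ A q' = 0 ∧
        C x = A x ∧ C y = 0 ∧ C q = B q ∧ C q' = 0 ∧ C p = 0 := by
    have oA := one_common S.hd S.hdt hA S.tA S.lA.deg vC S.tC S.AC
    have oB := one_common S.hd S.hdt hBB S.tB hBd vC S.tC S.BC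
    have hcp : C p * A p = -(C p * B p) := by rw [hpp, mul_neg]
    rcases oA with ⟨a1, a2, a3⟩ | ⟨a1, a2, a3⟩ | ⟨a1, a2, a3⟩ <;>
      rcases oB with ⟨b1, b2, b3⟩ | ⟨b1, b2, b3⟩ | ⟨b1, b2, b3⟩ <;>
      first
        | exact absurd hcp (by omega)
        | exact ⟨x, y, q, q', hA, hBB, hBx, hBy, hAq, hAq', eq_of_prod_one hA.hq a2,
            eq_of_prod_zero hA.hr a3, eq_of_prod_one hBB.hq b2, eq_of_prod_zero hBB.hr b3,
            eq_of_prod_zero hA.hp a1⟩
        | exact ⟨x, y, q', q, hA, hBB.swap23, hBx, hBy, hAq', hAq, eq_of_prod_one hA.hq a2,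
            eq_of_prod_zero hA.hr a3, eq_of_prod_one hBB.hr b3, eq_of_prod_zero hBB.hq b2,
            eq_of_prod_zero hA.hp a1⟩
        | exact ⟨y, x, q, q', hA.swap23, hBB, hBy, hBx, hAq, hAq', eq_of_prod_one hA.hr a3,
            eq_of_prod_zero hA.hq a2, eq_of_prod_one hBB.hq b2, eq_of_prod_zero hBB.hr b3,
            eq_of_prod_zero hA.hp a1⟩
        | exact ⟨y, x, q', q, hA.swap23, hBB.swap23, hBy, hBx, hAq', hAq, eq_of_prod_one hA.hr a3,
            eq_of_prod_zero hA.hq a2, eq_of_prod_one hBB.hr b3, eq_of_prod_zero hBB.hq b2,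
            eq_of_prod_zero hA.hp a1⟩
  have nA0 : ∀ {k}, A k = 0 → k ≠ p ∧ k ≠ x ∧ k ≠ y := fun {k} hk =>
    ⟨fun e => hA.ne (e ▸ hk), fun e => hA.swap12.ne (e ▸ hk), fun e => hA.swap23.swap12.ne (e ▸ hk)⟩
  have nB0 : ∀ {k}, B k = 0 → k ≠ p ∧ k ≠ q ∧ k ≠ q' := fun {k} hk =>
    ⟨fun e => hBB.ne (e ▸ hk), fun e => hBB.swap12.ne (e ▸ hk),
      fun e => hBB.swap23.swap12.ne (e ▸ hk)⟩
  obtain ⟨z, hC⟩ := exists_four vC S.hd (nB0 S.tB).2.1 (nA0 S.tA).2.1 (nA0 hAq).2.1
    (by rw [S.tC]; norm_num) (by rw [cq]; exact hBB.swap12.ne) (by rw [cx]; exact hA.swap12.ne)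
  have hz0 : ∀ {k}, C k = 0 → z ≠ k := fun hk e => by
    rw [← e] at hk
    rcases hC.hw with a | a <;> omega
  have hAz : A z = 0 := hA.hz z (hz0 cp) hC.ncw.symm (hz0 cy)
  have hBz : B z = 0 := hBB.hz z (hz0 cp) hC.nbw.symm (hz0 cq')
  -- the values on `A` and on `B`
  have hdp : (d p : ℚ) ≠ 0 := by exact_mod_cast (S.hd p).ne'
  obtain ⟨ρ, hρ⟩ : ∃ ρ : ℚ, a * u p = ρ * d p := ⟨a * u p / d p, by field_simp⟩
  obtain ⟨σ, hσ⟩ : ∃ σ : ℚ, b * w p = σ * d p := ⟨b * w p / d p, by field_simp⟩
  have fA := S.fA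
  have fB := S.fB
  have rA : ∀ {x y}, Three A p x y → a * u x = ρ * d x := fun {x y} hA => by
    have := hA.ratio S.hd S.lA.deg S.lA.su (c := a) (by rw [fA.1, mul_zero])
    rw [hρ] at this
    exact mul_right_cancel₀ hdp (by linear_combination this)
  have rB : ∀ {x y}, Three B p x y → b * w x = σ * d x := fun {x y} hA => by
    have := hA.ratio S.hd S.lB.deg S.lB.sw (c := b) (by rw [fB.2.2, mul_zero])
    rw [hσ] at this
    exact mul_right_cancel₀ hdp (by linear_combination this)
  -- the twin of the common constituent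
  obtain ⟨r, hrp, hDp, hDr, hdr, hur⟩ :
      ∃ r, r ≠ p ∧ D p = A p ∧ D r = -A p ∧ d r = d p ∧ u r = u p := by
    obtain ⟨i, -, hi⟩ := Finset.exists_ne_zero_of_sum_ne_zero (s := (Finset.univ : Finset I))
      (f := fun k => D k * D k) (by rw [S.nD]; norm_num)
    have hi1 : D i = 1 ∨ D i = -1 := by
      have := Finset.single_le_sum (f := fun k => D k * D k) (s := Finset.univ)
        (fun k _ => mul_self_nonneg _) (Finset.mem_univ i)
      rw [S.nD] at this
      exact ThreeCubed.Arith.eq_or_eq_neg_of_sq_le (left_ne_zero_of_mul hi) (by omega)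
    obtain ⟨j, hj, hj1, hz⟩ := rest_one (m := D) (T := {i}) (c := 1) (by
      rw [Finset.sum_singleton]
      rcases hi1 with e | e <;> rw [e] <;> norm_num) (by rw [S.nD]; norm_num)
    simp only [Finset.mem_singleton] at hj hz
    have sum2 : ∀ f : I → ℤ, ∑ k, D k * f k = D i * f i + D j * f j := fun f => by
      rw [← Finset.sum_subset (Finset.subset_univ ({i, j} : Finset I)) fun k _ hk => by
        simp only [Finset.mem_insert, Finset.mem_singleton, not_or] at hk
        rw [hz k hk.1 hk.2, zero_mul], Finset.sum_pair (Ne.symm hj)]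
    have e1 := S.lD.deg
    have e2 := S.lD.su
    have e4 := S.AD
    have e5 := S.BD
    rw [sum2] at e1 e2 e4 e5
    have hopp : D j = -D i := by
      have := S.hd i; have := S.hd j
      rcases hi1 with e | e <;> rcases hj1 with e' | e' <;> rw [e, e'] at e1 ⊢ <;> omega
    rw [hopp] at e1 e2 e4 e5
    have hdd : d j = d i := by rcases hi1 with e | e <;> rw [e] at e1 <;> omega
    have huu : u j = u i := by rcases hi1 with e | e <;> rw [e] at e2 <;> omega
    -- one of the two lies in `A`, and then in `B`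
    have key : ∀ i j, (D i = 1 ∨ D i = -1) → j ≠ i → D j = -D i → d j = d i → u j = u i →
        A i = D i → D i * B i + -D i * B j = -1 →
        ∃ r, r ≠ p ∧ D p = A p ∧ D r = -A p ∧ d r = d p ∧ u r = u p := by
      intro i j hi1 hji hopp hdd huu hAi e5
      by_cases hip : i = p
      · subst hip
        exact ⟨j, hji, hAi.symm, by rw [hopp, hAi], hdd, huu⟩
      exfalso
      have hBi : B i = 0 := by
        by_contra h0
        refine h0 (hBB.hz i hip (fun e => ?_) fun e => ?_) <;> subst e <;>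
          rcases hi1 with a | a <;> rw [a] at hAi <;> omega
      have hBj : B j ≠ 0 := by
        intro h0
        rw [hBi, h0] at e5
        omega
      have hjp : j ≠ p := by
        intro e
        subst e
        have e4' : D i * A i + -D i * A j = 1 := by
          have := S.AD
          rw [← this]
          refine (?_ : ∑ k, D k * A k = _).symm
          rw [← Finset.sum_subset (Finset.subset_univ ({i, j} : Finset I)) fun k _ hk => by
            simp only [Finset.mem_insert, Finset.mem_singleton, not_or] at hk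
            have hk0 : D k = 0 := by
              have hn := S.nD
              rw [← Finset.sum_sdiff (Finset.subset_univ ({i, j, k} : Finset I)),
                Finset.sum_insert (by simp [Ne.symm hji, Ne.symm hk.1]),
                Finset.sum_pair (Ne.symm hk.2), hopp] at hn
              have h0 := Finset.sum_nonneg (s := Finset.univ \ ({i, j, k} : Finset I))
                fun n _ => mul_self_nonneg (D n)
              rcases hi1 with a | a <;> rw [a] at hn <;>
                exact mul_self_eq_zero.mp (le_antisymm (by linarith) (mul_self_nonneg _))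
            rw [hk0, zero_mul], Finset.sum_pair (Ne.symm hji), hopp]
        rcases hi1 with a | a <;> rcases hA.hp with a' | a' <;> rw [a] at e4' hAi <;>
          rw [a'] at e4' <;> rw [hAi] at e4' <;> omega
      -- then all values on `B` are proportional
      have hi0 : A i ≠ 0 := by rcases hi1 with a | a <;> omega
      have hiu : a * u i = ρ * d i := by
        rcases (show i = x ∨ i = y by
          by_contra hc
          simp only [not_or] at hc
          exact hi0 (hA.hz i hip hc.1 hc.2)) with e | e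
        · subst e; exact rA hA
        · subst e; exact rA hA.swap23
      have hju : a * u j = ρ * d j := by rw [huu, hdd, hiu]
      have : ∀ {q q'}, Three B p q q' → a * u q = ρ * d q → False := by
        intro q q' hBB hq
        have h1 := fB.1
        rw [hBB.form S.hd] at h1
        have su := hBB.sum_rat S.lB.su a
        have sd := hBB.sum_rat S.lB.deg 1
        simp only [one_mul] at sd
        have n1 := signed_ne S.hd hBB.hp (k := p)
        have n2 := signed_ne S.hd hBB.hq (k := q)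
        have n3 := signed_ne S.hd hBB.hr (k := q')
        rw [show (B q' : ℚ) * (a * u q') = ρ * ((B q' : ℚ) * d q') by
          rw [hρ, hq] at su; linear_combination su - ρ * sd, hρ, hq,
          show (B p : ℚ) * (ρ * d p) = ρ * ((B p : ℚ) * d p) by ring,
          show (B q : ℚ) * (ρ * d q) = ρ * ((B q : ℚ) * d q) by ring] at h1
        generalize (B p : ℚ) * d p = P at *
        generalize (B q : ℚ) * d q = Q at *
        generalize (B q' : ℚ) * d q' = Q' at *
        field_simp at h1
        refine S.hg ?_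
        linear_combination (-1 / 3 : ℚ) * h1 + (ρ ^ 2 / 3) * sd
      rcases (show j = q ∨ j = q' by
        by_contra hc
        simp only [not_or] at hc
        exact hBj (hBB.hz j hjp hc.1 hc.2)) with e | e
      · subst e; exact this hBB hju
      · subst e; exact this hBB.swap23 hju
    have sA := small_mul (entries_small S.nA i) hi1
    have sA' := small_mul (entries_small S.nA j) hi1
    rcases (show A i * D i = 1 ∨ A j * D i = -1 by
      have h1 : A i * D i - A j * D i = 1 := by linarith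
      omega) with h | h
    · exact key i j hi1 hj hopp hdd huu (eq_of_prod_one hi1 h) e5
    · exact key j i hj1 (Ne.symm hj) (by rw [hopp, neg_neg]) hdd.symm huu.symm
        (by rw [hopp]; exact eq_of_prod_neg hi1 h) (by rw [hopp]; linarith)
  -- names for the signed variables
  set D2 := B q * d q with eD2
  set D3 := A x * d x with eD3
  set D4 := A y * d y with eD4
  set D8 := B p * d p with eD8
  set D12 := -(B q' * d q') with eD12
  have c2 : (B q : ℚ) * d q = D2 := by rw [eD2]; push_cast; ring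
  have c3 : (A x : ℚ) * d x = D3 := by rw [eD3]; push_cast; ring
  have c4 : (A y : ℚ) * d y = D4 := by rw [eD4]; push_cast; ring
  have c8 : (B p : ℚ) * d p = D8 := by rw [eD8]; push_cast; ring
  have c12 : (B q' : ℚ) * d q' = -(D12 : ℚ) := by rw [eD12]; push_cast; ring
  have cAp : (A p : ℚ) * d p = -(D8 : ℚ) := by rw [hpp, ← c8]; push_cast; ring
  have e8 : (D8 : ℚ) = D3 + D4 := by
    have := hA.sum_rat S.lA.deg 1
    linarith
  have e12 : (D12 : ℚ) = D2 + D8 := by
    have := hBB.sum_rat S.lB.deg 1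
    linarith
  obtain ⟨α, hα⟩ : ∃ α : ℚ, (A x : ℚ) * (b * w x) = σ * D3 + α :=
    ⟨(A x : ℚ) * (b * w x) - σ * D3, by ring⟩
  obtain ⟨β, hβ⟩ : ∃ β : ℚ, (B q : ℚ) * (a * u q) = ρ * D2 + β :=
    ⟨(B q : ℚ) * (a * u q) - ρ * D2, by ring⟩
  have u3 : (A x : ℚ) * (a * u x) = ρ * D3 := by rw [rA hA, ← c3]; ring
  have u4 : (A y : ℚ) * (a * u y) = ρ * D4 := by rw [rA hA.swap23, ← c4]; ring
  have w2 : (B q : ℚ) * (b * w q) = σ * D2 := by rw [rB hBB, ← c2]; ring
  have w12 : (B q' : ℚ) * (b * w q') = -(σ * D12) := by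
    rw [rB hBB.swap23]; linear_combination σ * c12
  have w4 : (A y : ℚ) * (b * w y) = σ * D4 + -α := by
    have := hA.sum_rat S.lA.sw b
    rw [hσ, hα] at this
    linear_combination this - σ * cAp + σ * e8
  have u12 : (B q' : ℚ) * (a * u q') = -(ρ * D12 + β) := by
    have := hBB.sum_rat S.lB.su a
    rw [hρ, hβ] at this
    linear_combination this - ρ * c8 + ρ * e12
  have n2 : (D2 : ℚ) ≠ 0 := c2 ▸ signed_ne S.hd hBB.hq
  have n3 : (D3 : ℚ) ≠ 0 := c3 ▸ signed_ne S.hd hA.hq
  have n4 : (D4 : ℚ) ≠ 0 := c4 ▸ signed_ne S.hd hA.hr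
  have n8 : (D8 : ℚ) ≠ 0 := c8 ▸ signed_ne S.hd hBB.hp
  have n12 : (D12 : ℚ) ≠ 0 := fun e => signed_ne S.hd hBB.hr (k := q') (by rw [c12, e, neg_zero])
  have eA : α ^ 2 * (D8 : ℚ) / (D3 * D4) = g * 3 := by
    rw [← fA.2.2, hA.form S.hd, hα, w4, c3, c4, cAp, hσ,
      show (A p : ℚ) * (σ * d p) = σ * ((A p : ℚ) * d p) by ring, cAp, e8]
    rw [e8] at n8
    field_simp
    ring
  have eB : β ^ 2 * (D8 : ℚ) / (D2 * D12) = g * 3 := by
    rw [← fB.1, hBB.form S.hd, hβ, u12, c2, c12, c8, hρ,
      show (B p : ℚ) * (ρ * d p) = ρ * ((B p : ℚ) * d p) by ring, c8]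
    rw [e12] at n12 ⊢
    field_simp
    ring
  obtain ⟨-, -, hT1, k1, k2, k3⟩ := forms_pair (X := (D2 : ℚ)) (Y := (D3 : ℚ)) (ρ := ρ) (σ := σ)
    (α := α) (β := β) hC S.hd S.hdt S.hut S.hwt S.lC S.tC S.fC
    (by rw [cq]; exact c2) (by rw [cx]; exact c3) (by rw [cq]; exact hβ) (by rw [cq]; exact w2)
    (by rw [cx]; exact u3) (by rw [cx]; exact hα)
  have sol := Core.exists_sol n2 n3 n4 n8 n12 hT1 S.hg e8 e12 eA eB k1 k2 k3
  have hu0 : u p ≠ 0 := hB p hBB.ne
  have hρ0 : ρ ≠ 0 := fun e => by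
    rw [e, zero_mul] at hρ
    exact hu0 (by exact_mod_cast (mul_eq_zero.mp hρ).resolve_left S.ha)
  -- the vector `E`
  have oA := one_common S.hd S.hdt hA S.tA S.lA.deg vE S.tE S.AE
  have oB := one_common S.hd S.hdt hBB.neg (by simp [S.tB]) hBneg vE S.tE
    (by simp only [mul_neg, Finset.sum_neg_distrib, S.BE]; norm_num)
  have hEC : E q * B q + E x * A x + E z * C z = 0 := by
    have := hC.dot E
    rw [S.CE, S.tE, S.tC, cq, cx] at this
    linarith
  have hep : E p * A p = E p * -B p := by rw [hpp]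
  have Et : E t ≠ 0 := by rw [S.tE]; norm_num
  have tx := (nA0 S.tA).2.1
  have ty := (nA0 S.tA).2.2
  have tp := (nA0 S.tA).1
  have tq := (nB0 S.tB).2.1
  have tq' := (nB0 S.tB).2.2
  rcases oA with ⟨a1, a2, a3⟩ | ⟨a1, a2, a3⟩ | ⟨a1, a2, a3⟩ <;>
    rcases oB with ⟨b1, b2, b3⟩ | ⟨b1, b2, b3⟩ | ⟨b1, b2, b3⟩
  all_goals try exact absurd hep (by omega)
  · -- the common constituent twice
    have hEp := eq_of_prod_one hA.hp a1
    have hsum : ∑ k, D k * E k = D p * E p + D r * E r := by
      rw [← Finset.sum_subset (Finset.subset_univ ({p, r} : Finset I)) fun k _ hk => by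
        simp only [Finset.mem_insert, Finset.mem_singleton, not_or] at hk
        have hn := S.nD
        rw [← Finset.sum_sdiff (Finset.subset_univ ({p, r, k} : Finset I)),
          Finset.sum_insert (by simp [hrp.symm, Ne.symm hk.1]),
          Finset.sum_pair (Ne.symm hk.2), hDp, hDr] at hn
        have h0 := Finset.sum_nonneg (s := Finset.univ \ ({p, r, k} : Finset I))
          fun n _ => mul_self_nonneg (D n)
        have hk0 : D k = 0 := by
          rcases hA.hp with e | e <;> rw [e] at hn <;>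
            exact mul_self_eq_zero.mp (le_antisymm (by linarith) (mul_self_nonneg _))
        rw [hk0, zero_mul], Finset.sum_pair hrp.symm]
    rw [S.ED, hDp, hDr, hEp] at hsum
    have hEr : E r = A p := by rcases hA.hp with e | e <;> rw [e] at hsum ⊢ <;> linarith
    have hrt : t ≠ r := fun e => by
      rw [← e, S.hut] at hur
      exact hu0 hur.symm
    obtain ⟨j, hE⟩ := exists_four vE S.hd tp hrt hrp.symm Et (by rw [hEp]; exact hA.ne)
      (by rw [hEr]; exact hA.ne)
    have hF := S.fE
    have eu := four_sum_rat hE S.lE.su a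
    have ew := four_sum_rat hE S.lE.sw b
    have ed := four_sum_rat hE S.lE.deg 1
    rw [hEp, hEr, S.hut, hur, hρ, S.tE] at eu
    rw [hEp, hEr, S.hdt, hdr, S.tE] at ed
    obtain ⟨f1, f2, f3⟩ := hF
    rw [hE.form S.hd (fun n => a * u n) (fun n => a * u n), hEp, hEr, hdr, hur, hρ, S.hut] at f1
    rw [hE.form S.hd (fun n => a * u n) (fun n => b * w n), hEp, hEr, hdr, hur, hρ, S.hut] at f2
    rw [hE.form S.hd (fun n => b * w n) (fun n => b * w n), hEp, hEr, hdr, S.hwt] at f3
    rw [hσ] at f2 f3 ew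
    have hwr : b * w r = σ * d p := by
      have := S.lD.sw
      rw [← Finset.sum_subset (Finset.subset_univ ({p, r} : Finset I)) fun k _ hk => by
        simp only [Finset.mem_insert, Finset.mem_singleton, not_or] at hk
        have hn := S.nD
        rw [← Finset.sum_sdiff (Finset.subset_univ ({p, r, k} : Finset I)),
          Finset.sum_insert (by simp [hrp.symm, Ne.symm hk.1]),
          Finset.sum_pair (Ne.symm hk.2), hDp, hDr] at hn
        have h0 := Finset.sum_nonneg (s := Finset.univ \ ({p, r, k} : Finset I))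
          fun n _ => mul_self_nonneg (D n)
        have hk0 : D k = 0 := by
          rcases hA.hp with e | e <;> rw [e] at hn <;>
            exact mul_self_eq_zero.mp (le_antisymm (by linarith) (mul_self_nonneg _))
        rw [hk0, zero_mul], Finset.sum_pair hrp.symm, hDp, hDr] at this
      have h2 : w r = w p := by rcases hA.hp with e | e <;> rw [e] at this <;> linarith
      rw [h2, hσ]
    rw [hwr] at f2 f3 ew
    rw [S.hwt, hEp, hEr, S.tE] at ew
    simp only [Int.cast_zero, Int.cast_one, mul_zero, zero_mul, zero_div, zero_add, one_mul, mul_one]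
      at f1 f2 f3 eu ew ed
    have hj := signed_ne S.hd hE.hw (k := j)
    have n8' := signed_ne S.hd hA.hp (k := p)
    generalize hP : (A p : ℚ) * d p = P at *
    rw [show (A p : ℚ) * (ρ * d p) = ρ * P by rw [← hP]; ring] at f1 f2 eu
    rw [show (A p : ℚ) * (σ * d p) = σ * P by rw [← hP]; ring] at f2 f3 ew
    rw [show (E j : ℚ) * d j = -(1 + 2 * P) by linarith] at hj f1 f2 f3
    rw [show (E j : ℚ) * (a * u j) = -(2 * (ρ * P)) by linarith] at f1 f2
    rw [show (E j : ℚ) * (b * w j) = -(2 * (σ * P)) by linarith] at f2 f3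
    have h1 : g * (3 / 2) * (g * (9 / 2)) = g * (3 / 2) * (g * (3 / 2)) := by
      conv_lhs => rw [← f1, ← f3]
      conv_rhs => rw [← f2]
      ring
    have : g ^ 2 = 0 := by linear_combination (2 / 9 : ℚ) * h1
    exact S.hg ((pow_eq_zero_iff two_ne_zero).mp this)
  · -- the second arrangement
    have hEz : E z = 0 := eq_of_prod_zero hC.hw (by linarith)
    obtain ⟨j, hE⟩ := exists_four vE S.hd tq tx (nA0 hAq).2.1 Et
      (left_ne_zero_of_mul (b2.trans_ne one_ne_zero)) (left_ne_zero_of_mul (a2.trans_ne one_ne_zero))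
    have hEx := eq_of_prod_one hA.hq a2
    have hEq : E q = -B q := eq_of_prod_neg hBB.hq (by linarith)
    obtain ⟨-, -, h1, k1, k2, k3⟩ := forms_pair (X := -(D2 : ℚ)) (Y := (D3 : ℚ)) (ρ := ρ) (σ := σ)
      (α := α) (β := -β) hE S.hd S.hdt S.hut S.hwt S.lE S.tE S.fE
      (by rw [hEq]; push_cast; linear_combination -c2) (by rw [hEx]; exact c3)
      (by rw [hEq]; push_cast; linear_combination -hβ) (by rw [hEq]; push_cast; linear_combination -w2)
      (by rw [hEx]; exact u3) (by rw [hEx]; exact hα)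
    exact hρ0 (Core.config_two sol n2 n3 h1 S.hg k1 k2 k3)
  · -- the third arrangement
    have hEq' : E q' = -B q' := eq_of_prod_neg hBB.hr (by linarith)
    have hEx := eq_of_prod_one hA.hq a2
    have hEz : E z = -C z := eq_of_prod_neg hC.hw (by linarith)
    have hzq' : q' ≠ z := Ne.symm (hz0 cq')
    obtain ⟨j, hE⟩ := exists_four vE S.hd tx tq' (nA0 hAq').2.1.symm Et
      (by rw [hEx]; exact hA.swap12.ne) (by rw [hEq']; simpa using hBB.swap23.swap12.ne)
    have hjz : j = z := by
      by_contra hne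
      have h0 := hE.hz z hC.naw.symm hC.ncw.symm (Ne.symm hzq') (Ne.symm hne)
      rw [h0] at hEz
      rcases hC.hw with e | e <;> omega
    subst hjz
    have sd := four_sum_rat hC S.lC.deg 1
    have su := four_sum_rat hC S.lC.su a
    have sw := four_sum_rat hC S.lC.sw b
    have td := four_sum_rat hE S.lE.deg 1
    have tu := four_sum_rat hE S.lE.su a
    have tw := four_sum_rat hE S.lE.sw b
    rw [S.tC, S.hdt, cq, cx] at sd
    rw [S.tC, S.hut, cq, cx, hβ, u3] at su
    rw [S.tC, S.hwt, cq, cx, w2, hα] at sw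
    rw [S.tE, S.hdt, hEx, hEq', hEz] at td
    rw [S.tE, S.hut, hEx, hEq', hEz, u3] at tu
    rw [S.tE, S.hwt, hEx, hEq', hEz, hα] at tw
    push_cast at sd su sw td tu tw
    refine Core.config_three sol hT1 ?_ ?_ ?_
    · have : ((1 + D3 + D12 + (1 + D2 + D3) : ℤ) : ℚ) = 0 := by
        push_cast
        linear_combination td + sd - c2 - 2 * c3 + c12
      exact_mod_cast this
    · linear_combination tu + su + u12
    · linear_combination tw + sw + w12
  · -- the fourth arrangement
    have hEq : E q = -B q := eq_of_prod_neg hBB.hq (by linarith)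
    have hEy := eq_of_prod_one hA.hr a3
    have hEz : E z = C z := eq_of_prod_one hC.hw (by linarith)
    obtain ⟨j, hE⟩ := exists_four vE S.hd tq ty (nA0 hAq).2.2 Et
      (by rw [hEq]; simpa using hBB.swap12.ne) (by rw [hEy]; exact hA.swap23.swap12.ne)
    have hjz : j = z := by
      by_contra hne
      have h0 := hE.hz z hC.naw.symm hC.nbw.symm (hz0 cy) (Ne.symm hne)
      rw [h0] at hEz
      rcases hC.hw with e | e <;> omega
    subst hjz
    have sd := four_sum_rat hC S.lC.deg 1
    have su := four_sum_rat hC S.lC.su a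
    have td := four_sum_rat hE S.lE.deg 1
    have tu := four_sum_rat hE S.lE.su a
    rw [S.tC, S.hdt, cq, cx] at sd
    rw [S.tC, S.hut, cq, cx, hβ, u3] at su
    rw [S.tE, S.hdt, hEq, hEy, hEz] at td
    rw [S.tE, S.hut, hEq, hEy, hEz, u4] at tu
    push_cast at sd su td tu
    refine sol.b0 ?_
    linear_combination (-1 / 2 : ℚ) * tu + (1 / 2 : ℚ) * su - (1 / 2 : ℚ) * hβ +
      (ρ / 2) * (td - sd + 2 * c2 + c3 - c4)
  · -- the standard arrangement
    have hEq' : E q' = -B q' := eq_of_prod_neg hBB.hr (by linarith)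
    have hEy := eq_of_prod_one hA.hr a3
    obtain ⟨j, hE⟩ := exists_four vE S.hd tq' ty (nA0 hAq').2.2 Et
      (by rw [hEq']; simpa using hBB.swap23.swap12.ne) (by rw [hEy]; exact hA.swap23.swap12.ne)
    obtain ⟨-, -, h1, k1, k2, k3⟩ := forms_pair (X := (D12 : ℚ)) (Y := (D4 : ℚ)) (ρ := ρ) (σ := σ)
      (α := -α) (β := β) hE S.hd S.hdt S.hut S.hwt S.lE S.tE S.fE
      (by rw [hEq']; push_cast; linear_combination -c12) (by rw [hEy]; exact c4)
      (by rw [hEq']; push_cast; linear_combination -u12)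
      (by rw [hEq']; push_cast; linear_combination -w12)
      (by rw [hEy]; exact u4) (by rw [hEy]; exact w4)
    have h4 : D4 ≠ 0 := fun e => n4 (by rw [e]; norm_num)
    have h12 : D12 ≠ 0 := fun e => n12 (by rw [e]; norm_num)
    have hk := Core.config_std sol h4 h12 h1 hT1 S.hg k1 k2 k3
    rw [hk] at hβ
    have hb : (B q : ℚ) * (a * u q) = 0 := hβ
    simp only [mul_eq_zero, Int.cast_eq_zero, S.ha, false_or] at hb
    exact hb.elim hBB.swap12.ne (hB q hBB.swap12.ne)

end Cfsg.Agent.AltNine.Arith
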