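import Cfsg.Agent.Lib.Recog.AltNine.Model
import Mathlib.GroupTheory.Perm.Basic
import Mathlib.Logic.Equiv.Fin.Basic
import Mathlib.Algebra.Group.Subgroup.Map

/-!
The group of the statement, given by permutations, is the model.
-/

set_option autoImplicit false

namespace Cfsg.Agent.AltNine

/-- The action on nine points, as pairs. -/
def act9 (m : Mon) (x : Fin 3 × Fin 3) : Fin 3 × Fin 3 :=
  (pEval m.g.1 x.1, (sv (sgn m.g (pEval m.g.1 x.1)) (x.2 : ZMod 3) + co m.v (pEval m.g.1 x.1) : ZMod 3))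

theorem act9_one : ∀ x, act9 1 x = x := by decide +kernel

theorem pEval_mul : ∀ g h : G4, ∀ b, pEval (gMul g h).1 b = pEval g.1 (pEval h.1 b) := by
  decide +kernel

theorem sgn_mul : ∀ g h : G4, ∀ b,
    sgn (gMul g h) (pEval g.1 b) = xor (sgn g (pEval g.1 b)) (sgn h b) := by decide +kernel

theorem co_act : ∀ g : G4, ∀ v : V3, ∀ b,
    co (gAct g v) (pEval g.1 b) = sv (sgn g (pEval g.1 b)) (co v b) := by decide +kernel

theorem co_add (u v : V3) (b : Fin 3) : co (u + v) b = co u b + co v b := by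
  simp only [co]
  split_ifs <;> rfl

theorem sv_aff : ∀ s t : Bool, ∀ x y : ZMod 3, sv (xor s t) x = sv s (sv t x) ∧
    sv s (x + y) = sv s x + sv s y := by decide +kernel

theorem aff_comp : ∀ s t : Bool, ∀ c c' : ZMod 3, ∀ j : Fin 3,
    (sv (xor s t) (j : ZMod 3) + (c + sv s c') : ZMod 3) =
      sv s (sv t (j : ZMod 3) + c' : ZMod 3) + c := by decide +kernel

theorem act9_mul (m m' : Mon) (x : Fin 3 × Fin 3) : act9 (m * m') x = act9 m (act9 m' x) := by
  obtain ⟨u, g⟩ := m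
  obtain ⟨v, h⟩ := m'
  obtain ⟨b, j⟩ := x
  simp only [mul_def, mmul, act9, pEval_mul, co_add, sgn_mul, co_act]
  refine Prod.ext rfl ?_
  generalize sgn g (pEval g.1 (pEval h.1 b)) = s
  generalize sgn h (pEval h.1 b) = s'
  generalize co u (pEval g.1 (pEval h.1 b)) = c
  generalize co v (pEval h.1 b) = c'
  exact aff_comp s s' c c' j

/-- The permutation representation. -/
def perm9 : Mon →* Equiv.Perm (Fin 9) where
  toFun m := (finProdFinEquiv (m := 3) (n := 3)).permCongr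
    { toFun := act9 m
      invFun := act9 m⁻¹
      left_inv := fun x => by rw [← act9_mul, inv_mul_cancel, act9_one]
      right_inv := fun x => by rw [← act9_mul, mul_inv_cancel, act9_one] }
  map_one' := by
    ext x
    simp [Equiv.permCongr_apply, act9_one]
  map_mul' m m' := by
    ext x
    simp [Equiv.permCongr_apply, act9_mul]

/-- The generators, as permutations. -/
def gens : Set (Equiv.Perm (Fin 9)) :=
  {Equiv.swap (0 : Fin 9) 1 * Equiv.swap 1 2,
    Equiv.swap (0 : Fin 9) 3 * Equiv.swap 3 6 * (Equiv.swap (1 : Fin 9) 4 * Equiv.swap 4 7) *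
      (Equiv.swap (2 : Fin 9) 5 * Equiv.swap 5 8),
    Equiv.swap (0 : Fin 9) 1 * Equiv.swap 3 4,
    Equiv.swap (0 : Fin 9) 3 * Equiv.swap 1 4 * Equiv.swap 2 5 * Equiv.swap 6 7}

/-- Generator. -/
def gJ : Mon := ⟨(1, 0, 0), (0, false, false)⟩
/-- Generator. -/
def gR : Mon := ⟨0, (4, false, false)⟩
/-- Generator. -/
def gA : Mon := ⟨(1, 1, 0), (0, true, true)⟩
/-- Generator. -/
def gS : Mon := ⟨(0, 0, 1), (1, false, false)⟩

theorem perm9_gens : ∀ x : Fin 9,
    perm9 gJ x = Equiv.swap (0 : Fin 9) 1 (Equiv.swap (1 : Fin 9) 2 x) ∧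
    perm9 gR x = Equiv.swap (0 : Fin 9) 3 (Equiv.swap (3 : Fin 9) 6 (Equiv.swap (1 : Fin 9) 4
      (Equiv.swap (4 : Fin 9) 7 (Equiv.swap (2 : Fin 9) 5 (Equiv.swap (5 : Fin 9) 8 x))))) ∧
    perm9 gA x = Equiv.swap (0 : Fin 9) 1 (Equiv.swap (3 : Fin 9) 4 x) ∧
    perm9 gS x = Equiv.swap (0 : Fin 9) 3 (Equiv.swap (1 : Fin 9) 4
      (Equiv.swap (2 : Fin 9) 5 (Equiv.swap (6 : Fin 9) 7 x))) := by decide +kernel

/-- A translation. -/
def tr (v : V3) : Mon := ⟨v, (0, false, false)⟩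

theorem gen_facts :
    gR * gJ * gR⁻¹ = tr (0, 1, 0) ∧ gR⁻¹ * gJ * gR = tr (0, 0, 1) ∧
    (∀ v : V3, gJ ^ v.1.val * tr (0, 1, 0) ^ v.2.1.val * tr (0, 0, 1) ^ v.2.2.val = tr v) ∧
    (∀ m : Mon, tr m.v * ⟨0, m.g⟩ = m) ∧
    ⟨0, (0, true, true)⟩ = tr (-1, -1, 0) * gA ∧ ⟨0, (1, false, false)⟩ = tr (0, 0, -1) * gS ∧
    (∀ g : G4, ∃ i : Fin 3, ∃ j k l : Fin 2,
      gR ^ (i : ℕ) * (⟨0, (1, false, false)⟩ : Mon) ^ (j : ℕ) * ⟨0, (0, true, true)⟩ ^ (k : ℕ) *
        (gR * ⟨0, (0, true, true)⟩ * gR⁻¹) ^ (l : ℕ) = ⟨0, g⟩) := by decide +kernel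

theorem closure_gens : Subgroup.closure ({gJ, gR, gA, gS} : Set Mon) = ⊤ := by
  obtain ⟨e1, e2, e3, e4, e5, e6, e7⟩ := gen_facts
  set K := Subgroup.closure ({gJ, gR, gA, gS} : Set Mon)
  have hJ : gJ ∈ K := Subgroup.subset_closure (by simp)
  have hR : gR ∈ K := Subgroup.subset_closure (by simp)
  have hA : gA ∈ K := Subgroup.subset_closure (by simp)
  have hS : gS ∈ K := Subgroup.subset_closure (by simp)
  have htr : ∀ v, tr v ∈ K := fun v => by
    rw [← e3 v, ← e1, ← e2]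
    exact mul_mem (mul_mem (pow_mem hJ _) (pow_mem (mul_mem (mul_mem hR hJ) (inv_mem hR)) _))
      (pow_mem (mul_mem (mul_mem (inv_mem hR) hJ) hR) _)
  refine eq_top_iff.mpr fun m _ => ?_
  rw [← e4 m]
  refine mul_mem (htr _) ?_
  obtain ⟨i, j, k, l, e⟩ := e7 m.g
  rw [← e, e5, e6]
  exact mul_mem (mul_mem (mul_mem (pow_mem hR _) (pow_mem (mul_mem (htr _) hS) _))
    (pow_mem (mul_mem (htr _) hA) _))
    (pow_mem (mul_mem (mul_mem hR (mul_mem (htr _) hA)) (inv_mem hR)) _)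

theorem perm9_injective : Function.Injective perm9 := by
  rw [injective_iff_map_eq_one]
  intro m hm
  have h : ∀ m : Mon, (∀ x, act9 m x = x) → m = 1 := by decide +kernel
  refine h m fun x => ?_
  have := congrArg (fun s : Equiv.Perm (Fin 9) => (finProdFinEquiv (m := 3) (n := 3)).symm
    (s (finProdFinEquiv x))) hm
  simpa [perm9, Equiv.permCongr_apply] using this

/-- The group of the statement is the model. -/
theorem exists_model {H : Type*} [Group H] (e : H ≃* Subgroup.closure gens) :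
    Nonempty (H ≃* Mon) := by
  have hmap : perm9.range = Subgroup.closure gens := by
    rw [MonoidHom.range_eq_map, ← closure_gens, MonoidHom.map_closure]
    congr 1
    have h0 : perm9 gJ = Equiv.swap (0 : Fin 9) 1 * Equiv.swap 1 2 :=
      Equiv.ext fun x => (perm9_gens x).1
    have h1 : perm9 gR = Equiv.swap (0 : Fin 9) 3 * Equiv.swap 3 6 *
        (Equiv.swap (1 : Fin 9) 4 * Equiv.swap 4 7) * (Equiv.swap (2 : Fin 9) 5 * Equiv.swap 5 8) :=
      Equiv.ext fun x => by simpa using (perm9_gens x).2.1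
    have h2 : perm9 gA = Equiv.swap (0 : Fin 9) 1 * Equiv.swap 3 4 :=
      Equiv.ext fun x => (perm9_gens x).2.2.1
    have h3 : perm9 gS = Equiv.swap (0 : Fin 9) 3 * Equiv.swap 1 4 * Equiv.swap 2 5 * Equiv.swap 6 7 :=
      Equiv.ext fun x => by simpa using (perm9_gens x).2.2.2
    simp only [Set.image_insert_eq, Set.image_singleton, gens, h0, h1, h2, h3]
  exact ⟨e.trans ((MulEquiv.subgroupCongr hmap.symm).trans
    (MonoidHom.ofInjective perm9_injective).symm)⟩

end Cfsg.Agent.AltNine
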