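import Cfsg.Agent.Lib.Recog.AltNine.Model
import Cfsg.Agent.Lib.Recog.ThreeCubed.Model

/-!
Further finite facts about the model, used for the fusion and for the descent to `3^3 : 2^2`.
-/

set_option autoImplicit false

namespace Cfsg.Agent.AltNine

theorem support : ∀ m : Mon,
    (decide (vA m ≠ 0) || decide (vB m ≠ 0) || decide (vC m ≠ 0) || decide (vE m ≠ 0) ||
      decide (vD m ≠ 0)) = true →
    ∃ k : Fin 5, isTr (m ^ (k : ℕ)) = true ∧ m ^ (k : ℕ) ≠ 1 := by decide +kernel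

theorem tables_sq : ∀ m : Mon, m * m = 1 →
    vA m = 0 ∧ vB m = 0 ∧ vC m = 0 ∧ vE m = 0 ∧ vD m = 0 := by decide +kernel

/-- A weight one translation. -/
def zA : Mon := ⟨(0, 0, 1), (0, false, false)⟩
/-- A weight two translation. -/
def zT : Mon := ⟨(1, -1, 0), (0, false, false)⟩
/-- Representative of the first class. -/
def rA : Mon := ⟨0, (0, true, true)⟩
/-- Representative of the second class. -/
def rT : Mon := ⟨0, (1, true, true)⟩

theorem rep_facts :
    rA * zA = zA * rA ∧ rT * zT = zT * rT ∧ zA * zA * zA = 1 ∧ zT * zT * zT = 1 ∧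
    zA ≠ 1 ∧ zT ≠ 1 ∧ isTr zA = true ∧ isTr zT = true ∧ rA * rA = 1 ∧ rT * rT = 1 ∧
    rA ≠ 1 ∧ rT ≠ 1 ∧ tyA rA = true ∧ tyT rT = true ∧
    (∀ m : Mon, m * zA * m⁻¹ ≠ zT ∧ m * zA * m⁻¹ ≠ zT⁻¹) ∧
    (Finset.univ.filter fun m : Mon => m * rT = rT * m).card = 12 := by decide +kernel

theorem types_of_invol : ∀ m : Mon, m * m = 1 → m ≠ 1 → (tyA m || tyT m) = true := by
  decide +kernel

theorem ty_conj : ∀ m : Mon,
    (tyA m = true → ∃ c : Mon, c * rA * c⁻¹ = m) ∧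
    (tyT m = true → ∃ c : Mon, c * rT * c⁻¹ = m) := by decide +kernel

theorem card_tr : (Finset.univ.filter fun m : Mon => isTr m = true).card = 27 := by decide +kernel

theorem tr_cube : ∀ m : Mon, isTr m = true → m * m * m = 1 := by decide +kernel

theorem tr_normal : ∀ m c : Mon, isTr m = true → isTr (c * m * c⁻¹) = true := by
  intro m c hm
  simp only [isTr, decide_eq_true_eq] at hm ⊢
  show gMul (gMul c.g m.g) (gInv c.g) = (0, false, false)
  have : ∀ g : G4, gMul g (gInv g) = (0, false, false) := by decide +kernel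
  rw [hm, (gMul_one c.g).2.1, this]

theorem tr_mul : ∀ m c : Mon, isTr m = true → isTr c = true → isTr (m * c) = true ∧ m * c = c * m := by
  rintro ⟨u, g⟩ ⟨v, h⟩ hm hc
  simp only [isTr, decide_eq_true_eq] at hm hc ⊢
  subst hm hc
  refine ⟨(gMul_one _).1, ?_⟩
  show Mon.mk _ _ = Mon.mk _ _
  rw [gAct_one, gAct_one, add_comm]

/-- The cube. -/
def cube (m : Mon) : Mon := m * m * m

theorem exp_three : ∀ m : Mon, cube (cube (cube (cube m))) = 1 → cube (cube m) = 1 := by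
  decide +kernel

/-- An element outside the translations in a normal 3-subgroup is impossible. -/
theorem outside : ∀ m : Mon, isTr m = false → cube (cube m) = 1 →
    ∃ c : G4, cube (cube (m * (⟨0, c⟩ * m * ⟨0, c⟩⁻¹))) ≠ 1 := by decide +kernel

theorem cent_cards : ∀ u v : V3, u ≠ 0 → v ≠ 0 →
    (Finset.univ.filter fun m : Mon => gAct m.g u = u).card =
      (Finset.univ.filter fun m : Mon => gAct m.g v = v).card →
    ∃ c : G4, gAct c u = v := by decide +kernel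

theorem cent_tr : ∀ u : V3, ∀ m : Mon,
    m * ⟨u, (0, false, false)⟩ = ⟨u, (0, false, false)⟩ * m ↔ gAct m.g u = u := by
  rintro u ⟨v, g⟩
  simp only [mul_def, mmul, Mon.mk.injEq, gAct_one, (gMul_one g).1, (gMul_one g).2.1, and_true]
  rw [add_comm u v, add_right_inj]

theorem conj_tr : ∀ u : V3, ∀ c : G4,
    (⟨0, c⟩ : Mon) * ⟨u, (0, false, false)⟩ * (⟨0, c⟩ : Mon)⁻¹ = ⟨gAct c u, (0, false, false)⟩ := by
  decide +kernel

theorem sum_parity :
    ∑ m ∈ Finset.univ.filter (fun m : Mon => pOdd m.g.1 = false), vB m = 0 ∧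
    ∑ m ∈ Finset.univ.filter (fun m : Mon => pOdd m.g.1 = true), vB m = 0 := by decide +kernel

theorem diag_tr : ∀ v : V3, wt v ≤ 1 →
    ∃ c c' : G4, ∃ x : V3, (⟨v, (0, false, false)⟩ : Mon) = ⟨x, c⟩ * ⟨0, c'⟩ ∧
      (tyA ⟨x, c⟩ || decide ((⟨x, c⟩ : Mon) = 1)) = true ∧
      (tyA ⟨0, c'⟩ || decide ((⟨0, c'⟩ : Mon) = 1)) = true := by decide +kernel

theorem diag_signs : ∀ g : G4, g.1 = 0 →
    (tyA ⟨0, g⟩ || decide ((⟨0, g⟩ : Mon) = 1)) = true := by decide +kernel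

theorem wt_axes : ∀ i : ZMod 3, wt (i, 0, 0) ≤ 1 ∧ wt (0, i, 0) ≤ 1 ∧ wt (0, 0, i) ≤ 1 := by
  decide +kernel

theorem diag_split : ∀ m : Mon, m.g.1 = 0 →
    (⟨(m.v.1, 0, 0), (0, false, false)⟩ : Mon) * ⟨(0, m.v.2.1, 0), (0, false, false)⟩ *
      ⟨(0, 0, m.v.2.2), (0, false, false)⟩ * ⟨0, m.g⟩ = m := by decide +kernel

theorem even_quot : ∀ g h : G4, pOdd g.1 = false → g.1 ≠ 0 → pOdd h.1 = false →
    (gMul h g).1 = 0 ∨ (gMul h (gInv g)).1 = 0 ∨ h.1 = 0 := by decide +kernel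

theorem odd_comm : ∀ g : G4, pOdd g.1 = true →
    ∃ c : G4, pOdd (gMul (gMul (gMul c g) (gInv c)) (gInv g)).1 = false ∧
      (gMul (gMul (gMul c g) (gInv c)) (gInv g)).1 ≠ 0 := by decide +kernel

theorem odd_coset : ∀ g : G4, pOdd g.1 = true → pOdd (gMul (gInv (1, true, true)) g).1 = false := by
  decide +kernel

/-- A coordinate in the dihedral group of order six. -/
def dco (s : Bool) (x : ZMod 3) : DihedralGroup 3 :=
  if s then DihedralGroup.sr (-x) else DihedralGroup.r x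

/-- The elements fixing the coordinates, as triples. -/
def toW (m : Mon) : ThreeCubed.W :=
  (dco (sgn m.g 0) m.v.1, dco (sgn m.g 1) m.v.2.1, dco (sgn m.g 2) m.v.2.2)

theorem dco_mul : ∀ s t : Bool, ∀ x y : ZMod 3,
    dco s x * dco t y = dco (xor s t) (x + sv s y) := by decide +kernel

theorem sgn_zero_mul : ∀ g h : G4, g.1 = 0 → h.1 = 0 → (gMul g h).1 = 0 ∧
    ∀ i, sgn (gMul g h) i = xor (sgn g i) (sgn h i) := by decide +kernel

theorem toW_mul : ∀ m m' : Mon, m.g.1 = 0 → m'.g.1 = 0 → toW (m * m') = toW m * toW m' := by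
  rintro ⟨u, g⟩ ⟨v, h⟩ hg hh
  have h' := (sgn_zero_mul g h hg hh).2
  have e : gAct g v = (sv (sgn g 0) v.1, sv (sgn g 1) v.2.1, sv (sgn g 2) v.2.2) := by
    simp only [gAct]
    rw [show g.1 = 0 from hg]
    rfl
  simp only [toW, mul_def, mmul, h', Prod.mk_mul_mk, dco_mul, e]
  rfl

theorem toW_inj : ∀ m : Mon, m.g.1 = 0 → toW m = 1 → m = 1 := by decide +kernel

theorem toW_range : ∀ w : ThreeCubed.W, ThreeCubed.even w = true →
    ∃ a b : Bool, ∃ x : V3, toW ⟨x, (0, a, b)⟩ = w := by decide +kernel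

theorem toW_even : ∀ m : Mon, m.g.1 = 0 → ThreeCubed.even (toW m) = true := by decide +kernel

end Cfsg.Agent.AltNine
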