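import Cfsg.Agent.Lib.Recog.AltNine.Model
import Cfsg.Agent.Lib.CT.Induced
import Mathlib.Data.Real.Sqrt
import Mathlib.Analysis.Complex.Basic

/-!
The tables on the model are generalized characters: they are combinations of monomial characters.
-/

set_option autoImplicit false

namespace Cfsg.Agent.AltNine

open Complex (I)

/-- Coordinates for `1, ω, i, iω`. -/
abbrev Q4 := ℤ × ℤ × ℤ × ℤ

/-- The twelfth roots of unity in coordinates. -/
def rt (n : ZMod 12) : Q4 :=
  let w : ℤ × ℤ := if n.val % 3 = 0 then (1, 0) else if n.val % 3 = 1 then (0, 1) else (-1, -1)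
  if (3 * n.val) % 4 = 0 then (w.1, w.2, 0, 0) else if (3 * n.val) % 4 = 1 then (0, 0, w.1, w.2)
  else if (3 * n.val) % 4 = 2 then (-w.1, -w.2, 0, 0) else (0, 0, -w.1, -w.2)

/-- Product in the ring of the twelfth roots of unity. -/
def qmul : Q4 → Q4 → Q4
  | (a, b, c, d), (a', b', c', d') =>
    (a * a' - b * b' - (c * c' - d * d'),
      a * b' + b * a' - b * b' - (c * d' + d * c' - d * d'),
      a * c' - b * d' + (c * a' - d * b'),
      a * d' + b * c' - b * d' + (c * b' + d * a' - d * b'))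

theorem rt_add : ∀ m n : ZMod 12, rt (m + n) = qmul (rt m) (rt n) := by decide +kernel

theorem rt_zero : rt 0 = (1, 0, 0, 0) := by decide +kernel

/-- A cube root of unity. -/
noncomputable def om : ℂ := (-1 + I * (Real.sqrt 3 : ℂ)) / 2

theorem sqrt3_sq : ((Real.sqrt 3 : ℝ) : ℂ) * (Real.sqrt 3 : ℝ) = 3 := by
  rw [← Complex.ofReal_mul, Real.mul_self_sqrt (by norm_num)]
  norm_num

theorem om_sq : om * om = -1 - om := by
  rw [om]
  linear_combination (I * I / 4) * sqrt3_sq + (3 / 4 : ℂ) * Complex.I_mul_I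

/-- The value of coordinates. -/
noncomputable def qC : Q4 →+ ℂ where
  toFun q := (q.1 : ℂ) + q.2.1 * om + q.2.2.1 * I + q.2.2.2 * (I * om)
  map_zero' := by simp
  map_add' p q := by
    simp only [Prod.fst_add, Prod.snd_add]
    push_cast
    ring

theorem qC_mul (p q : Q4) : qC (qmul p q) = qC p * qC q := by
  obtain ⟨a, b, c, d⟩ := p
  obtain ⟨a', b', c', d'⟩ := q
  simp only [qC, qmul, AddMonoidHom.coe_mk, ZeroHom.coe_mk]
  push_cast
  linear_combination
    (-(b : ℂ) * b' - d * d' * (I * I) - (b * d' + d * b') * I) * om_sq +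
    (-(c : ℂ) * c' - (c * d' + d * c') * om - d * d' * (-1 - om)) * Complex.I_mul_I

theorem qC_one : qC (1, 0, 0, 0) = 1 := by simp [qC]

/-- The roots of unity as units. -/
noncomputable def rtHom : Multiplicative (ZMod 12) →* ℂˣ :=
  MonoidHom.toHomUnits
    { toFun := fun n => qC (rt n.toAdd)
      map_one' := by simp [rt_zero, qC_one]
      map_mul' := fun m n => by simp [rt_add, qC_mul] }

/-- The real quadratic ring inside the complex numbers. -/
noncomputable def rC : R3 →+* ℂ := Zsqrtd.lift ⟨((Real.sqrt 3 : ℝ) : ℂ), by rw [sqrt3_sq]; norm_num⟩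

theorem rC_apply (r : R3) : rC r = (r.re : ℂ) + r.im * ((Real.sqrt 3 : ℝ) : ℂ) := rfl

/-- Coordinates of an element of the real quadratic ring. -/
def toQ (r : R3) : Q4 := (r.re, 0, -r.im, -2 * r.im)

theorem qC_toQ (r : R3) : qC (toQ r) = rC r := by
  rw [rC_apply]
  simp only [qC, toQ, AddMonoidHom.coe_mk, ZeroHom.coe_mk, om]
  push_cast
  linear_combination (-(r.im : ℂ) * ((Real.sqrt 3 : ℝ) : ℂ)) * Complex.I_mul_I

/-- A monomial character in coordinates. -/
def indQ (L : Mon → Bool) (n : Mon → ZMod 12) (R : Finset Mon) (g : Mon) : Q4 :=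
  ∑ r ∈ R, if L (r⁻¹ * g * r) = true then rt (n (r⁻¹ * g * r)) else 0

/-- The conditions on the data of a monomial character. -/
structure Ok (L : Mon → Bool) (n : Mon → ZMod 12) (R : Finset Mon) : Prop where
  one : L 1 = true
  n_one : n 1 = 0
  hom : ∀ x ∈ Finset.univ.filter (fun m => L m = true),
    ∀ y ∈ Finset.univ.filter (fun m => L m = true), L (x * y) = true ∧ n (x * y) = n x + n y
  inv : ∀ x ∈ Finset.univ.filter (fun m => L m = true), L x⁻¹ = true
  trans : ∀ r ∈ R, ∀ r' ∈ R, L (r⁻¹ * r') = true → r = r'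
  card : R.card * (Finset.univ.filter fun m => L m = true).card = 648

theorem card_Mon : Fintype.card Mon = 648 := by decide +kernel

theorem isGen_indQ {L : Mon → Bool} {n : Mon → ZMod 12} {R : Finset Mon} (h : Ok L n R) :
    IsGeneralizedCharacter Mon (fun g => qC (indQ L n R g)) := by
  classical
  have mem : ∀ {x}, L x = true → x ∈ Finset.univ.filter (fun m => L m = true) := fun hx => by
    simp [hx]
  let S : Subgroup Mon :=
    { carrier := {x | L x = true}
      one_mem' := h.one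
      mul_mem' := fun hx hy => (h.hom _ (mem hx) _ (mem hy)).1
      inv_mem' := fun hx => h.inv _ (mem hx) }
  let lam : S →* ℂˣ := rtHom.comp
    { toFun := fun x => Multiplicative.ofAdd (n x.1)
      map_one' := by simp [h.n_one]
      map_mul' := fun x y => by simp [(h.hom _ (mem x.2) _ (mem y.2)).2] }
  have hg := CT.isGen_indFun S (CT.isGen_of_isIrr (CT.isIrrCharacter_lin lam))
  convert hg using 1
  funext g
  let ψ : R × S → Mon := fun p => (p.1 : Mon) * (p.2 : Mon)
  have hinj : Function.Injective ψ := by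
    rintro ⟨r, l⟩ ⟨r', l'⟩ e
    have e' : ((r : Mon))⁻¹ * (r' : Mon) = (l : Mon) * ((l' : Mon))⁻¹ := by
      have : (r : Mon) * l = r' * l' := e
      rw [eq_mul_inv_iff_mul_eq, mul_assoc, ← this, inv_mul_cancel_left]
    have hr : (r : Mon) = r' := h.trans r r.2 r' r'.2 (by
      rw [e']; exact S.mul_mem l.2 (S.inv_mem l'.2))
    have hr' : r = r' := Subtype.ext hr
    subst hr'
    exact Prod.ext rfl (Subtype.ext (mul_left_cancel (show (r : Mon) * l = r * l' from e)))
  have hcardS : Fintype.card S = (Finset.univ.filter fun m => L m = true).card := by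
    rw [← Fintype.card_subtype]
    exact Fintype.card_congr (Equiv.refl _)
  have hbij : Function.Bijective ψ := (Fintype.bijective_iff_injective_and_card ψ).mpr ⟨hinj, by
    rw [Fintype.card_prod, Fintype.card_coe, hcardS, h.card, card_Mon]⟩
  have key : ∀ p : R × S, extendByZero S (fun s => (lam s : ℂ)) ((ψ p)⁻¹ * g * ψ p) =
      qC (if L ((p.1 : Mon)⁻¹ * g * p.1) = true then rt (n ((p.1 : Mon)⁻¹ * g * p.1)) else 0) := by
    rintro ⟨r, l⟩
    have e : (ψ (r, l))⁻¹ * g * ψ (r, l) = (l : Mon)⁻¹ * ((r : Mon)⁻¹ * g * r) * l := by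
      simp only [ψ]; group
    rw [e]
    show extendByZero S _ ((l : Mon)⁻¹ * ((r : Mon)⁻¹ * g * r) * l) =
      qC (if L ((r : Mon)⁻¹ * g * r) = true then rt (n ((r : Mon)⁻¹ * g * r)) else 0)
    by_cases hy : L ((r : Mon)⁻¹ * g * r) = true
    · have hy' : (r : Mon)⁻¹ * g * r ∈ S := hy
      have hm : (l : Mon)⁻¹ * ((r : Mon)⁻¹ * g * r) * l ∈ S :=
        S.mul_mem (S.mul_mem (S.inv_mem l.2) hy') l.2
      rw [CT.extendByZero_mem S _ hm, if_pos hy,
        show (⟨_, hm⟩ : S) = l⁻¹ * ⟨_, hy'⟩ * l from rfl]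
      simp only [map_mul, map_inv, Units.val_mul]
      rw [mul_comm ((lam l)⁻¹ : ℂˣ).val, mul_assoc, ← Units.val_mul, inv_mul_cancel, Units.val_one,
        mul_one]
      rfl
    · rw [if_neg hy, map_zero, CT.extendByZero_not_mem]
      intro hm
      apply hy
      have := S.mul_mem (S.mul_mem l.2 hm) (S.inv_mem l.2)
      rw [show (l : Mon) * ((l : Mon)⁻¹ * ((r : Mon)⁻¹ * g * r) * l) * (l : Mon)⁻¹ =
        (r : Mon)⁻¹ * g * r by group] at this
      exact this
  rw [indFun, ← Fintype.sum_bijective ψ hbij _ _ (fun p => rfl), Finset.sum_congr rfl fun p _ => key p,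
    Fintype.sum_prod_type]
  simp only [Finset.sum_const, Finset.card_univ, nsmul_eq_mul]
  rw [← Finset.mul_sum, ← mul_assoc, Nat.card_eq_fintype_card,
    inv_mul_cancel₀ (Nat.cast_ne_zero.mpr Fintype.card_ne_zero), one_mul, indQ, map_sum]
  exact (Finset.sum_coe_sort R (fun r => qC (if L (r⁻¹ * g * r) = true then
    rt (n (r⁻¹ * g * r)) else 0))).symm

/-- The residues modulo twelve of a coordinate. -/
def up (x : ZMod 3) : ZMod 12 := (x.val : ZMod 12)

/-- Fixing the last coordinate. -/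
def L1 (m : Mon) : Bool := decide (m.g.1 = 0) || decide (m.g.1 = 1)
/-- Its representatives. -/
def R1 : Finset Mon := {⟨0, (0, false, false)⟩, ⟨0, (2, false, false)⟩, ⟨0, (3, false, false)⟩}
/-- Fixing the last coordinate with positive sign. -/
def L8 (m : Mon) : Bool := L1 m && !sgn m.g 2
/-- Its representatives. -/
def R8 : Finset Mon :=
  {⟨0, (0, false, false)⟩, ⟨0, (0, false, true)⟩, ⟨0, (2, false, false)⟩, ⟨0, (2, true, false)⟩,
    ⟨0, (3, false, false)⟩, ⟨0, (3, false, true)⟩}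
/-- The stabilizer of a functional of weight two. -/
def L9 (m : Mon) : Bool :=
  decide (m.g = (0, false, false)) || decide (m.g = (3, true, false))
/-- Its representatives. -/
def R9 : Finset Mon :=
  (({0, 1, 2} : Finset (Fin 6)) ×ˢ (Finset.univ : Finset (Bool × Bool))).image fun g => ⟨0, g⟩
/-- The stabilizer of a functional of weight three. -/
def L12 (m : Mon) : Bool :=
  decide (m.g = (0, false, false)) || decide (m.g = (4, false, false)) ||
    decide (m.g = (5, false, false))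
/-- Its representatives. -/
def R12 : Finset Mon :=
  (({0, 1} : Finset (Fin 6)) ×ˢ (Finset.univ : Finset (Bool × Bool))).image fun g => ⟨0, g⟩

/-- Exponent. -/
def n2 (_ : Mon) : ZMod 12 := 0
/-- Exponent. -/
def n3 (m : Mon) : ZMod 12 := if sgn m.g 2 then 6 else 0
/-- Exponent. -/
def n4 (m : Mon) : ZMod 12 := n3 m + if pOdd m.g.1 then 6 else 0
/-- Exponent. -/
def n5 (m : Mon) : ZMod 12 := 4 * up m.v.2.2
/-- Exponent. -/
def k8 (g : G4) : ZMod 12 :=
  if g = (0, true, true) then 2 else if g = (1, false, true) then 1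
  else if g = (1, true, false) then 3 else 0
/-- Exponent. -/
def n7 (m : Mon) : ZMod 12 := 4 * up m.v.2.2 + 9 * k8 m.g
/-- Exponent. -/
def n8 (m : Mon) : ZMod 12 := 4 * up m.v.2.2 + 3 * k8 m.g
/-- Exponent. -/
def n9 (m : Mon) : ZMod 12 := 4 * up (m.v.2.1 + m.v.2.2)
/-- Exponent. -/
def n12 (m : Mon) : ZMod 12 :=
  4 * up (m.v.1 + m.v.2.1 + m.v.2.2) + if m.g.1 = 4 then 4 else if m.g.1 = 5 then 8 else 0

/-- Multiplicativity splits into the translations and the monomial matrices. -/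
theorem Ok.of_split {L : Mon → Bool} {n : Mon → ZMod 12} {R : Finset Mon} (Lg : G4 → Bool)
    (φ : V3 → ZMod 12) (k : G4 → ZMod 12) (hL : ∀ m, L m = Lg m.g) (hn : ∀ m, n m = φ m.v + k m.g)
    (one : L 1 = true) (n_one : n 1 = 0)
    (hφ : ∀ u v, φ (u + v) = φ u + φ v) (hact : ∀ g, Lg g = true → ∀ v, φ (gAct g v) = φ v)
    (hk : ∀ g h, Lg g = true → Lg h = true → Lg (gMul g h) = true ∧ k (gMul g h) = k g + k h)
    (hinv : ∀ g, Lg g = true → Lg (gInv g) = true)
    (trans : ∀ r ∈ R, ∀ r' ∈ R, L (r⁻¹ * r') = true → r = r')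
    (card : R.card * (Finset.univ.filter fun m => L m = true).card = 648) : Ok L n R := by
  refine ⟨one, n_one, fun x hx y hy => ?_, fun x hx => ?_, trans, card⟩
  · simp only [Finset.mem_filter, Finset.mem_univ, true_and, hL] at hx hy
    obtain ⟨h1, h2⟩ := hk _ _ hx hy
    simp only [hL, hn, mul_def, mmul]
    refine ⟨h1, ?_⟩
    rw [hφ, hact _ hx, h2]
    ring
  · simp only [Finset.mem_filter, Finset.mem_univ, true_and, hL] at hx
    simp only [hL, inv_def, minv]
    exact hinv _ hx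

/-- The matrix part of `L1`. -/
def g1 (g : G4) : Bool := decide (g.1 = 0) || decide (g.1 = 1)
/-- The matrix part of `L8`. -/
def g8 (g : G4) : Bool := g1 g && !sgn g 2
/-- The matrix part of `L9`. -/
def g9 (g : G4) : Bool := decide (g = (0, false, false)) || decide (g = (3, true, false))
/-- The matrix part of `L12`. -/
def g12 (g : G4) : Bool :=
  decide (g = (0, false, false)) || decide (g = (4, false, false)) || decide (g = (5, false, false))

theorem ok2 : Ok L1 n2 R1 := by
  refine Ok.of_split g1 (fun _ => 0) (fun _ => 0) (fun _ => rfl) (fun _ => rfl) ?_ ?_ ?_ ?_ ?_ ?_ ?_ ?_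
  all_goals decide +kernel
theorem ok3 : Ok L1 n3 R1 := by
  refine Ok.of_split g1 (fun _ => 0) (fun g => if sgn g 2 then 6 else 0) (fun _ => rfl)
    (fun _ => (zero_add _).symm) ?_ ?_ ?_ ?_ ?_ ?_ ?_ ?_
  all_goals decide +kernel
theorem ok4 : Ok L1 n4 R1 := by
  refine Ok.of_split g1 (fun _ => 0)
    (fun g => (if sgn g 2 then 6 else 0) + if pOdd g.1 then 6 else 0) (fun _ => rfl)
    (fun _ => (zero_add _).symm) ?_ ?_ ?_ ?_ ?_ ?_ ?_ ?_
  all_goals decide +kernel
theorem ok5 : Ok L8 n5 R8 := by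
  refine Ok.of_split g8 (fun v => 4 * up v.2.2) (fun _ => 0) (fun _ => rfl)
    (fun _ => (add_zero _).symm) ?_ ?_ ?_ ?_ ?_ ?_ ?_ ?_
  all_goals decide +kernel
theorem ok7 : Ok L8 n7 R8 := by
  refine Ok.of_split g8 (fun v => 4 * up v.2.2) (fun g => 9 * k8 g) (fun _ => rfl)
    (fun _ => rfl) ?_ ?_ ?_ ?_ ?_ ?_ ?_ ?_
  all_goals decide +kernel
theorem ok8 : Ok L8 n8 R8 := by
  refine Ok.of_split g8 (fun v => 4 * up v.2.2) (fun g => 3 * k8 g) (fun _ => rfl)
    (fun _ => rfl) ?_ ?_ ?_ ?_ ?_ ?_ ?_ ?_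
  all_goals decide +kernel
theorem ok9 : Ok L9 n9 R9 := by
  refine Ok.of_split g9 (fun v => 4 * up (v.2.1 + v.2.2)) (fun _ => 0) (fun _ => rfl)
    (fun _ => (add_zero _).symm) ?_ ?_ ?_ ?_ ?_ ?_ ?_ ?_
  all_goals decide +kernel
theorem ok12 : Ok L12 n12 R12 := by
  refine Ok.of_split g12 (fun v => 4 * up (v.1 + v.2.1 + v.2.2))
    (fun g => if g.1 = 4 then 4 else if g.1 = 5 then 8 else 0) (fun _ => rfl)
    (fun _ => rfl) ?_ ?_ ?_ ?_ ?_ ?_ ?_ ?_
  all_goals decide +kernel

theorem decomp : ∀ g : Mon,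
    toQ (vA g) = indQ L1 n3 R1 g + indQ L1 n4 R1 g - indQ L8 n8 R8 g ∧
    toQ (vB g) = indQ L1 n2 R1 g - (1, 0, 0, 0) + indQ L8 n8 R8 g - indQ L12 n12 R12 g ∧
    toQ (vC g) = indQ L1 n2 R1 g + indQ L1 n3 R1 g - indQ L8 n5 R8 g ∧
    toQ (vE g) = (1, 0, 0, 0) + indQ L1 n4 R1 g - indQ L9 n9 R9 g + indQ L12 n12 R12 g ∧
    toQ (vD g) = indQ L8 n7 R8 g - indQ L8 n8 R8 g := by decide +kernel

/-- The tables. -/
def mTables : List (Mon → R3) := [vA, vB, vC, vE, vD]

theorem isGen_mTables : ∀ F ∈ mTables, IsGeneralizedCharacter Mon (fun g => rC (F g)) := by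
  have h1 : IsGeneralizedCharacter Mon (fun _ => qC (1, 0, 0, 0)) := by
    simpa only [qC_one] using CT.isGen_of_isCharacter (CT.isCharacter_one (G := Mon))
  intro F hF
  simp only [mTables, List.mem_cons, List.not_mem_nil, or_false] at hF
  rcases hF with rfl | rfl | rfl | rfl | rfl
  · convert CT.isGen_sub (CT.isGen_add (isGen_indQ ok3) (isGen_indQ ok4)) (isGen_indQ ok8) using 1
    funext g; simp [← qC_toQ, (decomp g).1]
  · convert CT.isGen_sub (CT.isGen_add (CT.isGen_sub (isGen_indQ ok2) h1) (isGen_indQ ok8))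
      (isGen_indQ ok12) using 1
    funext g; simp [← qC_toQ, (decomp g).2.1]
  · convert CT.isGen_sub (CT.isGen_add (isGen_indQ ok2) (isGen_indQ ok3)) (isGen_indQ ok5) using 1
    funext g; simp [← qC_toQ, (decomp g).2.2.1]
  · convert CT.isGen_add (CT.isGen_sub (CT.isGen_add h1 (isGen_indQ ok4)) (isGen_indQ ok9))
      (isGen_indQ ok12) using 1
    funext g; simp [← qC_toQ, (decomp g).2.2.2.1]
  · convert CT.isGen_sub (isGen_indQ ok7) (isGen_indQ ok8) using 1
    funext g; simp [← qC_toQ, (decomp g).2.2.2.2]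

end Cfsg.Agent.AltNine
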