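import Cfsg.Agent.Lib.Recog.AltNine.Arith
import Cfsg.Agent.Lib.Recog.AltNine.Gen
import Cfsg.Agent.Lib.Recog.AltNine.Facts
import Cfsg.Agent.Lib.Recog.TISetup.Basic
import Cfsg.Agent.Lib.Recog.ThreeCubed.Main
import Cfsg.Agent.Lib.CT.FusionInvolutionTwo
import Cfsg.Agent.Lib.CT.Kernel

/-!
A group with a subgroup `3^3 : S₄` with strongly closed core containing the centralizers of its
elements coincides with it.
-/

set_option autoImplicit false
set_option linter.unusedSectionVars false
set_option linter.style.haveILetI false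

namespace Cfsg.Agent.AltNine

open TISetup (cdeg cval cdeg_eq cdeg_pos cdeg_triv cval_triv cval_eq)
open scoped ComplexConjugate

universe u

variable {G : Type u} [Group G]

/-- The hypotheses with a chosen identification with the model. -/
structure Setup (H J : Subgroup G) (e : H ≃* Mon) : Prop where
  hJH : J ≤ H
  hJ : ∀ h : H, (h : G) ∈ J ↔ isTr (e h) = true
  hC : ∀ j ∈ J, j ≠ 1 → Subgroup.centralizer ({j} : Set G) ≤ H
  hsc : ∀ x ∈ J, ∀ g : G, g * x * g⁻¹ ∈ H → g * x * g⁻¹ ∈ J

variable {H J : Subgroup G} {e : H ≃* Mon} [Fintype G] [Fintype H]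

theorem mul_g (x y : Mon) : (x * y).g = gMul x.g y.g := rfl
theorem inv_g (x : Mon) : x⁻¹.g = gInv x.g := rfl

namespace Setup

theorem card_H (_S : Setup H J e) : Nat.card H = 648 := by
  rw [Nat.card_congr e.toEquiv, Nat.card_eq_fintype_card, card_Mon]

theorem card_J (S : Setup H J e) : Nat.card J = 27 := by
  classical
  rw [← card_tr, ← Fintype.card_subtype, ← Nat.card_eq_fintype_card]
  exact Nat.card_congr
    { toFun := fun x => ⟨e ⟨x.1, S.hJH x.2⟩, (S.hJ _).mp x.2⟩
      invFun := fun m => ⟨(e.symm m.1 : G), (S.hJ _).mpr (by rw [MulEquiv.apply_symm_apply]; exact m.2)⟩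
      left_inv := fun x => Subtype.ext (by simp)
      right_inv := fun m => Subtype.ext (by simp) }

theorem J_comm (S : Setup H J e) {x y : G} (hx : x ∈ J) (hy : y ∈ J) : x * y = y * x := by
  have he := (tr_mul _ _ ((S.hJ ⟨x, S.hJH hx⟩).mp hx) ((S.hJ ⟨y, S.hJH hy⟩).mp hy)).2
  rw [← map_mul, ← map_mul] at he
  exact congrArg Subtype.val (e.injective he)

/-- The centralizer in `G` of an element of the core is its centralizer in `H`. -/
theorem cent_card (S : Setup H J e) (j : H) (hj : (j : G) ∈ J) (hj1 : (j : G) ≠ 1) :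
    Nat.card (Subgroup.centralizer ({(j : G)} : Set G)) =
      (Finset.univ.filter fun m : Mon => gAct m.g (e j).v = (e j).v).card := by
  classical
  have hev : e j = ⟨(e j).v, (0, false, false)⟩ := by
    have := (S.hJ j).mp hj
    simp only [isTr, decide_eq_true_eq] at this
    rw [← this]
  rw [← Fintype.card_subtype, ← Nat.card_eq_fintype_card]
  refine Nat.card_congr
    { toFun := fun x => ⟨e ⟨x.1, S.hC _ hj hj1 x.2⟩, ?_⟩
      invFun := fun m => ⟨(e.symm m.1 : G), ?_⟩
      left_inv := fun x => Subtype.ext (by simp)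
      right_inv := fun m => Subtype.ext (by simp) }
  · rw [← cent_tr, ← hev, ← map_mul, ← map_mul]
    exact congrArg e (Subtype.ext (Subgroup.mem_centralizer_singleton_iff.mp x.2))
  · refine Subgroup.mem_centralizer_singleton_iff.mpr ?_
    have h2 := (cent_tr _ m.1).mpr m.2
    rw [← hev, ← e.apply_symm_apply m.1, ← map_mul, ← map_mul] at h2
    exact congrArg Subtype.val (e.injective h2)

theorem conj_mem (S : Setup H J e) {x h : G} (hh : h ∈ H) (hx : x ∈ J) : h * x * h⁻¹ ∈ J := by
  have := (S.hJ (⟨h, hh⟩ * ⟨x, S.hJH hx⟩ * ⟨h, hh⟩⁻¹)).mpr (by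
    rw [map_mul, map_mul, map_inv]
    exact tr_normal _ _ ((S.hJ _).mp hx))
  exact this

/-- The normalizer of the core is `H`. -/
theorem mem_H_of_map (S : Setup H J e) {g : G} (sub : ∀ x ∈ J, g * x * g⁻¹ ∈ J) : g ∈ H := by
  classical
  obtain ⟨j, ej⟩ := e.surjective zA
  have hj : (j : G) ∈ J := (S.hJ j).mpr (by rw [ej]; exact rep_facts.2.2.2.2.2.2.1)
  have hne : ∀ {x : H}, e x ≠ 1 → (x : G) ≠ 1 := fun hx h => hx (by
    rw [show _ = (1 : H) from Subtype.ext h, map_one])
  have hj1 : (j : G) ≠ 1 := hne (by rw [ej]; exact rep_facts.2.2.2.2.1)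
  have hk := sub _ hj
  have hk1 : g * (j : G) * g⁻¹ ≠ 1 := fun h => hj1 (conj_eq_one_iff.mp h)
  set k : H := ⟨g * (j : G) * g⁻¹, S.hJH hk⟩ with hkdef
  have hcard : Nat.card (Subgroup.centralizer ({(j : G)} : Set G)) =
      Nat.card (Subgroup.centralizer ({(k : G)} : Set G)) := by
    refine Nat.card_congr ((MulAut.conj g).toEquiv.subtypeEquiv fun x => ?_)
    simp only [Subgroup.mem_centralizer_singleton_iff, MulEquiv.toEquiv_eq_coe, EquivLike.coe_coe,
      MulAut.conj_apply, hkdef]
    constructor <;> intro h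
    · rw [show g * x * g⁻¹ * (g * (j : G) * g⁻¹) = g * (x * j) * g⁻¹ by group, h]; group
    · refine mul_left_cancel (a := g) (mul_right_cancel (b := g⁻¹) ?_)
      calc g * (x * (j : G)) * g⁻¹ = g * x * g⁻¹ * (g * (j : G) * g⁻¹) := by group
        _ = _ := by rw [h]; group
  rw [S.cent_card j hj hj1, S.cent_card k hk hk1] at hcard
  have hv : ∀ {x : H}, (x : G) ∈ J → e x = ⟨(e x).v, (0, false, false)⟩ := fun hx => by
    have := (S.hJ _).mp hx
    simp only [isTr, decide_eq_true_eq] at this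
    rw [← this]
  have hvne : ∀ {x : H}, (x : G) ∈ J → (x : G) ≠ 1 → (e x).v ≠ 0 := fun {x} hx h1 h => h1 (by
    have e1 := hv hx
    rw [h, ← one_def, ← map_one e] at e1
    rw [e.injective e1, Subgroup.coe_one])
  obtain ⟨c, hc⟩ := cent_cards _ _ (hvne hj hj1) (hvne (x := k) hk hk1) hcard
  set h : H := e.symm ⟨0, c⟩ with hh
  have heq : h * j * h⁻¹ = k := e.injective (by
    rw [map_mul, map_mul, map_inv, hh, e.apply_symm_apply, hv hj, hv (x := k) hk, conj_tr, hc])
  have hc' : (h : G)⁻¹ * g ∈ Subgroup.centralizer ({(j : G)} : Set G) := by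
    refine Subgroup.mem_centralizer_singleton_iff.mpr ?_
    have hq : (h : G) * j * (h : G)⁻¹ = g * (j : G) * g⁻¹ := congrArg Subtype.val heq
    calc (h : G)⁻¹ * g * (j : G) = (h : G)⁻¹ * (g * (j : G) * g⁻¹) * g := by group
      _ = (j : G) * ((h : G)⁻¹ * g) := by rw [← hq]; group
  have := H.mul_mem h.2 (S.hC _ hj hj1 hc')
  rwa [mul_inv_cancel_left] at this

/-- `H` controls the fusion of the elements with a nontrivial power in the core. -/
theorem fusion (S : Setup H J e) (h : H) (k : ℕ) (hh : isTr ((e h) ^ k) = true) (hne : (e h) ^ k ≠ 1)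
    (g : G) (hg : g * (h : G) * g⁻¹ ∈ H) : g ∈ H := by
  have hs : (h : G) ^ k ∈ J := (S.hJ (h ^ k)).mpr (by rw [map_pow]; exact hh)
  have hs' : g * (h : G) ^ k * g⁻¹ ∈ J := by
    refine S.hsc _ hs g ?_
    rw [← conj_pow]
    exact H.pow_mem hg k
  have hne' : g * (h : G) ^ k * g⁻¹ ≠ 1 := fun he => hne (by
    rw [← map_pow, show h ^ k = 1 from Subtype.ext (by simpa using conj_eq_one_iff.mp he), map_one])
  refine S.mem_H_of_map fun x hx => S.hsc x hx g (S.hC _ hs' hne'
    (Subgroup.mem_centralizer_singleton_iff.mpr ?_))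
  calc g * x * g⁻¹ * (g * (h : G) ^ k * g⁻¹) = g * (x * (h : G) ^ k) * g⁻¹ := by group
    _ = g * ((h : G) ^ k * x) * g⁻¹ := by rw [S.J_comm hx hs]
    _ = g * (h : G) ^ k * g⁻¹ * (g * x * g⁻¹) := by group

theorem fusion_J (S : Setup H J e) {z : H} (hz : isTr (e z) = true) (hz1 : e z ≠ 1) (g : G)
    (hg : g * (z : G) * g⁻¹ ∈ H) : g ∈ H :=
  S.fusion z 1 (by rwa [pow_one]) (by rwa [pow_one]) g hg

/-- The two classes of involutions are never conjugate. -/
theorem not_conj_AT (S : Setup H J e) {a b : H} (ea : e a = rA) (eb : e b = rT) :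
    ¬ IsConj (a : G) (b : G) := by
  intro hab
  classical
  haveI : Fact (Nat.Prime 3) := ⟨Nat.prime_three⟩
  obtain ⟨fAz, fTz, fA3, fT3, fA1, fT1, fAtr, fTtr, -, -, -, -, -, -, fconj, fcard⟩ := rep_facts
  obtain ⟨g, hg⟩ := isConj_iff.mp hab
  obtain ⟨z, ez⟩ := e.surjective zA
  obtain ⟨z', ez'⟩ := e.surjective zT
  set L := Subgroup.centralizer ({(b : G)} : Set G) with hL
  have hz'3 : (z' : G) ^ 3 = 1 := by
    have : z' * z' * z' = 1 := e.injective (by rw [map_mul, map_mul, ez', map_one]; exact fT3)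
    have := congrArg Subtype.val this
    simpa [pow_succ, pow_two] using this
  have hz'1 : z' ≠ 1 := fun h => by
    rw [h, map_one] at ez'
    exact fT1 ez'.symm
  have hord : orderOf (z' : G) = 3 :=
    orderOf_eq_prime hz'3 fun h => hz'1 (Subtype.ext h)
  have hz'L : (z' : G) ∈ L := by
    refine Subgroup.mem_centralizer_singleton_iff.mpr ?_
    have : z' * b = b * z' := e.injective (by rw [map_mul, map_mul, ez', eb]; exact fTz.symm)
    exact congrArg Subtype.val this
  set Z := (Subgroup.zpowers (z' : G)).subgroupOf L with hZ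
  have hZle : Subgroup.zpowers (z' : G) ≤ L := Subgroup.zpowers_le.mpr hz'L
  have hZcard : Nat.card Z = 3 := by
    rw [Nat.card_congr (Subgroup.subgroupOfEquivOfLe hZle).toEquiv, Nat.card_zpowers, hord]
  have hNH : ∀ x : L, x ∈ Subgroup.normalizer (Z : Set L) → (x : G) ∈ H := by
    intro x hx
    refine S.fusion_J (z := z') (by rw [ez']; exact fTtr) (fun h => fT1 (ez'.symm.trans h)) _ ?_
    have h1 : (⟨(z' : G), hz'L⟩ : L) ∈ Z := Subgroup.mem_zpowers (z' : G)
    have h2 : x * ⟨(z' : G), hz'L⟩ * x⁻¹ ∈ Z := (Subgroup.mem_normalizer_iff.mp hx _).mp h1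
    have h3 : (x : G) * z' * (x : G)⁻¹ ∈ Subgroup.zpowers (z' : G) := h2
    exact Subgroup.zpowers_le.mpr z'.2 h3
  have hidx : ¬ 3 ∣ Z.index := by
    intro h
    have h9 : 9 ∣ Nat.card L := by
      rw [← Subgroup.card_mul_index Z, hZcard]
      exact mul_dvd_mul_left 3 h
    have h2 := Sylow.card_normalizer_modEq_card (p := 3) (n := 1) (H := Z) (by simpa using hZcard)
    set K := Subgroup.centralizer ({b} : Set H) with hK
    have hKcard : Nat.card K = 12 := by
      rw [← fcard, ← Fintype.card_subtype, ← Nat.card_eq_fintype_card]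
      refine Nat.card_congr (e.toEquiv.subtypeEquiv fun x => ?_)
      rw [← eb]
      simp only [MulEquiv.toEquiv_eq_coe, EquivLike.coe_coe, ← map_mul, e.injective.eq_iff]
      exact Subgroup.mem_centralizer_singleton_iff
    have hle : Nat.card (Subgroup.normalizer (Z : Set L)) ∣ Nat.card K := by
      refine Subgroup.card_dvd_of_injective
        ({ toFun := fun x => ⟨⟨((x : L) : G), hNH _ x.2⟩, Subgroup.mem_centralizer_singleton_iff.mpr
            (Subtype.ext (Subgroup.mem_centralizer_singleton_iff.mp (x : L).2))⟩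
           map_one' := rfl
           map_mul' := fun _ _ => rfl } : Subgroup.normalizer (Z : Set L) →* K) ?_
      intro x y hxy
      exact Subtype.ext (Subtype.ext (congrArg (fun t : K => ((t : H) : G)) hxy))
    rw [hKcard] at hle
    have h27 : 3 ∣ Nat.card (Subgroup.normalizer (Z : Set L)) :=
      hZcard ▸ Subgroup.card_dvd_of_le Subgroup.le_normalizer
    have hpos : 0 < Nat.card (Subgroup.normalizer (Z : Set L)) := Nat.card_pos
    have h9' : 9 ∣ Nat.card (Subgroup.normalizer (Z : Set L)) := by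
      unfold Nat.ModEq at h2
      norm_num [-Nat.card_eq_fintype_card] at h2
      omega
    exact absurd (h9'.trans hle) (by norm_num)
  set P : Sylow 3 L := (IsPGroup.of_card (n := 1) (by simpa using hZcard) : IsPGroup 3 Z).toSylow hidx
  have hzL : g * (z : G) * g⁻¹ ∈ L := by
    refine Subgroup.mem_centralizer_singleton_iff.mpr ?_
    have hza : z * a = a * z := e.injective (by rw [map_mul, map_mul, ez, ea]; exact fAz.symm)
    have hza' : (z : G) * a = a * z := congrArg Subtype.val hza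
    rw [← hg]
    calc g * (z : G) * g⁻¹ * (g * a * g⁻¹) = g * ((z : G) * a) * g⁻¹ := by group
      _ = g * ((a : G) * z) * g⁻¹ := by rw [hza']
      _ = g * a * g⁻¹ * (g * z * g⁻¹) := by group
  have hz3 : (z : G) ^ 3 = 1 := by
    have : z * z * z = 1 := e.injective (by rw [map_mul, map_mul, ez, map_one]; exact fA3)
    have := congrArg Subtype.val this
    simpa [pow_succ, pow_two] using this
  set y : L := ⟨_, hzL⟩ with hy
  have hy3 : y ^ 3 ^ 1 = 1 := Subtype.ext (by simp [hy, conj_pow, hz3])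
  obtain ⟨Q, hQ⟩ := IsPGroup.exists_le_sylow
    (show IsPGroup 3 (Subgroup.zpowers y) from fun w => ⟨1, by
      obtain ⟨m, hm⟩ := Subgroup.mem_zpowers_iff.mp w.2
      refine Subtype.ext ?_
      simp only [Subgroup.coe_pow, Subgroup.coe_one, ← hm]
      rw [← zpow_natCast, ← zpow_mul, mul_comm, zpow_mul, zpow_natCast, hy3, one_zpow]⟩)
  obtain ⟨l, hl⟩ := MulAction.exists_smul_eq L Q P
  have hmem : l * y * l⁻¹ ∈ Z := by
    have h1 : MulAut.conj l y ∈ ((l • Q : Sylow 3 L) : Subgroup L) := by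
      rw [Sylow.coe_subgroup_smul]
      exact Subgroup.smul_mem_pointwise_smul _ _ _ (hQ (Subgroup.mem_zpowers y))
    rw [hl] at h1
    exact h1
  have hmem' : (l : G) * g * z * ((l : G) * g)⁻¹ ∈ Subgroup.zpowers (z' : G) := by
    have : ((l * y * l⁻¹ : L) : G) ∈ Subgroup.zpowers (z' : G) := hmem
    simpa [hy, mul_assoc] using this
  have hk : (l : G) * g ∈ H := S.fusion_J (z := z) (by rw [ez]; exact fAtr)
    (fun h => fA1 (ez.symm.trans h)) _ (Subgroup.zpowers_le.mpr z'.2 hmem')
  rw [← mem_powers_iff_mem_zpowers] at hmem'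
  obtain ⟨n, hn⟩ := hmem'
  have hn' : (z' : G) ^ (n % 3) = (l : G) * g * z * ((l : G) * g)⁻¹ := by
    rw [← pow_eq_pow_mod n hz'3]
    exact hn
  have heq : z' ^ (n % 3) = (⟨_, hk⟩ : H) * z * (⟨_, hk⟩ : H)⁻¹ :=
    Subtype.ext (by simpa using hn')
  have := congrArg e heq
  rw [map_pow, ez', map_mul, map_mul, map_inv, ez] at this
  rcases (show n % 3 = 0 ∨ n % 3 = 1 ∨ n % 3 = 2 by omega) with h | h | h <;> rw [h] at this
  · rw [pow_zero, eq_comm, conj_eq_one_iff] at this
    exact fA1 this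
  · rw [pow_one] at this
    exact (fconj _).1 this.symm
  · rw [show zT ^ 2 = zT⁻¹ from eq_inv_of_mul_eq_one_left (by rw [pow_two]; exact fT3)] at this
    exact (fconj _).2 this.symm

/-- A table as a function on `H`. -/
noncomputable def fn (e : H ≃* Mon) (F : Mon → R3) : H → ℂ := fun h => rC (F (e h))

/-- Multiplicity of an irreducible character in an induced table. -/
noncomputable def coef (e : H ≃* Mon) (F : Mon → R3) (χ : IrrCharacter G) : ℤ :=
  ⌊(classInner (indFun H (fn e F)) χ).re⌋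

variable {F F' : Mon → R3}

theorem fn_sq (_S : Setup H J e) (hF : F ∈ mTables) (h : H) (hh : h * h = 1) : fn e F h = 0 := by
  obtain ⟨a, b, c, d, f⟩ := tables_sq (e h) (by rw [← map_mul, hh, map_one])
  simp only [mTables, List.mem_cons, List.not_mem_nil, or_false] at hF
  rcases hF with rfl | rfl | rfl | rfl | rfl <;> simp [fn, a, b, c, d, f]

theorem controls (S : Setup H J e) (hF : F ∈ mTables) (h : H) (hh : fn e F h ≠ 0) (g : G)
    (hg : g * (h : G) * g⁻¹ ∈ H) : g ∈ H := by
  have hne : F (e h) ≠ 0 := fun a => hh (by simp [fn, a])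
  obtain ⟨k, k1, k2⟩ := support (e h) (by
    simp only [mTables, List.mem_cons, List.not_mem_nil, or_false] at hF
    rcases hF with rfl | rfl | rfl | rfl | rfl <;> simp [hne])
  exact S.fusion h k k1 k2 g hg

theorem isGen_fn (_S : Setup H J e) (hF : F ∈ mTables) : IsGeneralizedCharacter H (fn e F) :=
  CT.isGen_comp e.toMonoidHom (isGen_mTables F hF)

theorem coef_spec (S : Setup H J e) (hF : F ∈ mTables) (χ : IrrCharacter G) :
    classInner (indFun H (fn e F)) χ = (coef e F χ : ℂ) := by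
  obtain ⟨m, hm⟩ := CT.isGen_inner_int (CT.isGen_indFun H (S.isGen_fn hF)) (CT.isGen_of_isIrr χ.2)
  rw [coef, hm]
  simp

theorem conj_rC (r : R3) : conj (rC r) = rC r := by
  simp [rC_apply]

theorem sum_rC (φ : Mon → R3) : ∑ h : H, rC (φ (e h)) = rC (∑ m : Mon, φ m) := by
  rw [map_sum]
  exact Fintype.sum_equiv e.toEquiv _ _ fun _ => rfl

theorem dot (S : Setup H J e) (hF : F ∈ mTables) (hF' : F' ∈ mTables) {n : ℤ}
    (hn : dotM F F' = (n : R3)) :
    648 * ∑ χ : IrrCharacter G, coef e F χ * coef e F' χ = n := by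
  have hcf : IsClassFunction H (fn e F') := CT.isClassFunction_of_isGen (S.isGen_fn hF')
  have h := CT.classInner_eq_sum (f := indFun H (fn e F)) (CT.isClassFunction_indFun H (fn e F'))
  rw [CT.classInner_indFun_fusion hcf (fun h => fn e F h ≠ 0 ∨ fn e F' h ≠ 0)
    (fun h hh g hg => hh.elim (fun a => S.controls hF h a g hg) fun a => S.controls hF' h a g hg)
    (fun h hh => by simp only [not_or, not_not] at hh; exact hh.1)
    (fun h hh => by simp only [not_or, not_not] at hh; exact hh.2)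
    (by simp [S.fn_sq hF 1 (one_mul 1), S.fn_sq hF' 1 (one_mul 1)])] at h
  simp only [coef_spec S hF, coef_spec S hF', map_intCast] at h
  have hval : classInner (fn e F) (fn e F') = (n : ℂ) / 648 := by
    simp only [classInner, fn, conj_rC, ← map_mul]
    rw [sum_rC (fun m => F m * F' m), ← dotM, hn, S.card_H, map_intCast]
    push_cast
    ring
  rw [hval, div_eq_iff (by norm_num)] at h
  have : ((648 * ∑ χ : IrrCharacter G, coef e F χ * coef e F' χ : ℤ) : ℂ) = (n : ℂ) := by
    rw [h]
    push_cast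
    ring
  exact_mod_cast this

theorem dot_one (S : Setup H J e) (hF : F ∈ mTables) {n : ℤ} (hn : dotM F (fun _ => 1) = (n : R3)) :
    648 * coef e F (CT.trivIrr G) = n := by
  have h := CT.frobenius_reciprocity H (fn e F) (CT.isClassFunction_of_isIrr (CT.trivIrr G).2)
  have hval : ∑ h : H, fn e F h * conj ((CT.trivIrr G : G → ℂ) h) = (n : ℂ) := by
    simp only [CT.trivIrr_apply, map_one, mul_one, fn]
    rw [sum_rC F, show (∑ m, F m) = dotM F (fun _ => 1) by simp [dotM], hn, map_intCast]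
  rw [coef_spec S hF, classInner, hval, S.card_H] at h
  have : ((648 * coef e F (CT.trivIrr G) : ℤ) : ℂ) = (n : ℂ) := by
    push_cast at h ⊢
    rw [h]
    ring
  exact_mod_cast this

theorem coef_eval (S : Setup H J e) (hF : F ∈ mTables) {g : G} (hg : g * g = 1) :
    ∑ χ : IrrCharacter G, (coef e F χ : ℂ) * (χ : G → ℂ) g = 0 := by
  have h0 : indFun H (fn e F) g = 0 := by
    refine CT.indFun_eq_zero_of_forall fun x hx => S.fn_sq hF _ (Subtype.ext ?_)
    show x⁻¹ * g * x * (x⁻¹ * g * x) = 1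
    rw [show x⁻¹ * g * x * (x⁻¹ * g * x) = x⁻¹ * (g * g) * x by group, hg, mul_one, inv_mul_cancel]
  rw [← h0]
  conv_rhs => rw [CT.classFunction_eq_sum (CT.isClassFunction_indFun H (fn e F))]
  simp [coef_spec S hF]

theorem coef_deg (S : Setup H J e) (hF : F ∈ mTables) :
    ∑ χ : IrrCharacter G, coef e F χ * cdeg χ = 0 := by
  have := S.coef_eval hF (g := 1) (one_mul 1)
  simp only [cdeg_eq] at this
  exact_mod_cast this

theorem coef_val (S : Setup H J e) (hF : F ∈ mTables) {u : G} (hu : u * u = 1) :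
    ∑ χ : IrrCharacter G, coef e F χ * cval u χ = 0 := by
  have := S.coef_eval hF hu
  simp only [cval_eq hu] at this
  exact_mod_cast this

open Classical in
/-- The pairs of involutions give the values of the forms. -/
theorem pairs (S : Setup H J e) (hF : F ∈ mTables) {u u' : G} (hu : u * u = 1)
    (hu' : u' * u' = 1) (P Q : Mon → Bool) (hP : ∀ h : H, IsConj u (h : G) ↔ P (e h) = true)
    (hQ : ∀ h : H, IsConj u' (h : G) ↔ Q (e h) = true) {n : ℤ} (hn : pairM P Q F = (n : R3)) :
    ∑ χ : IrrCharacter G, (coef e F χ : ℚ) *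
        ((Nat.card {x : G // IsConj u x} : ℚ) * ((cval u χ - cdeg χ : ℤ) : ℚ)) *
        ((Nat.card {x : G // IsConj u' x} : ℚ) * ((cval u' χ - cdeg χ : ℤ) : ℚ)) / (cdeg χ : ℚ) =
      (Nat.card G : ℚ) * (n : ℚ) / 648 := by
  have e0 := CT.involution_pair_sum_two (H := H) hu hu' (θ := fn e F)
    (fun h hh => S.controls hF h hh)
  have hsum : (∑ y ∈ Finset.univ.filter (fun y : H => IsConj u (y : G)),
      ∑ z ∈ Finset.univ.filter (fun z : H => IsConj u' (z : G)), fn e F (y * z)) = (n : ℂ) := by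
    rw [← map_intCast rC, ← hn, pairM, map_sum]
    refine Finset.sum_equiv e.toEquiv (fun i => by simpa only [Finset.mem_filter, Finset.mem_univ,
      true_and, MulEquiv.toEquiv_eq_coe, EquivLike.coe_coe, MulEquiv.coe_toEquiv] using hP i)
      fun y _ => ?_
    rw [map_sum]
    refine Finset.sum_equiv e.toEquiv (fun i => by simpa only [Finset.mem_filter, Finset.mem_univ,
      true_and, MulEquiv.toEquiv_eq_coe, EquivLike.coe_coe, MulEquiv.coe_toEquiv] using hQ i)
      fun z _ => ?_
    simp [fn]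
  replace e0 := e0.trans (show _ = (Nat.card H : ℂ)⁻¹ * (n : ℂ) by
    rw [← hsum]
    congr! 3 <;> exact Finset.filter_congr_decidable ..)
  rw [S.card_H] at e0
  simp only [coef_spec S hF, cdeg_eq, cval_eq hu, cval_eq hu'] at e0
  set K : ℚ := (Nat.card {x : G // IsConj u x} : ℚ) with hK
  set K' : ℚ := (Nat.card {x : G // IsConj u' x} : ℚ) with hK'
  have hG : (Nat.card G : ℚ) ≠ 0 := Nat.cast_ne_zero.mpr Nat.card_pos.ne'
  have e1 : K * K' / (Nat.card G : ℚ) * ∑ χ : IrrCharacter G,
      (coef e F χ : ℚ) * ((cval u χ : ℚ) * cval u' χ) / (cdeg χ : ℚ) = (n : ℚ) / 648 := by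
    have : (((K * K' / (Nat.card G : ℚ) * ∑ χ : IrrCharacter G,
        (coef e F χ : ℚ) * ((cval u χ : ℚ) * cval u' χ) / (cdeg χ : ℚ)) : ℚ) : ℂ) =
        (((n : ℚ) / 648 : ℚ) : ℂ) := by
      simp only [hK, hK']
      push_cast
      rw [e0]
      ring
    exact_mod_cast this
  have z1 : ∑ χ : IrrCharacter G, (coef e F χ : ℚ) * cdeg χ = 0 := by
    exact_mod_cast S.coef_deg hF
  have z2 : ∑ χ : IrrCharacter G, (coef e F χ : ℚ) * cval u χ = 0 := by
    exact_mod_cast S.coef_val hF hu
  have z3 : ∑ χ : IrrCharacter G, (coef e F χ : ℚ) * cval u' χ = 0 := by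
    exact_mod_cast S.coef_val hF hu'
  have e2 : ∑ χ : IrrCharacter G, (coef e F χ : ℚ) *
      (K * ((cval u χ - cdeg χ : ℤ) : ℚ)) * (K' * ((cval u' χ - cdeg χ : ℤ) : ℚ)) / (cdeg χ : ℚ) =
      K * K' * (∑ χ : IrrCharacter G,
        (coef e F χ : ℚ) * ((cval u χ : ℚ) * cval u' χ) / (cdeg χ : ℚ)) := by
    rw [← sub_eq_zero]
    calc _ = K * K' * (∑ χ : IrrCharacter G, ((coef e F χ : ℚ) * cdeg χ -
          (coef e F χ : ℚ) * cval u χ - (coef e F χ : ℚ) * cval u' χ)) := by
            simp only [Finset.mul_sum, ← Finset.sum_sub_distrib]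
            refine Finset.sum_congr rfl fun χ _ => ?_
            have : (cdeg χ : ℚ) ≠ 0 := by exact_mod_cast (cdeg_pos χ).ne'
            push_cast
            field_simp
            ring
      _ = 0 := by rw [Finset.sum_sub_distrib, Finset.sum_sub_distrib, z1, z2, z3]; ring
  rw [e2]
  field_simp at e1 ⊢
  linear_combination e1

/-- Some character which sees the table `B` has the first involution in its kernel. -/
theorem exists_kernel (S : Setup H J e) {a b : H} (ea : e a = rA) (eb : e b = rT) :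
    ∃ χ : IrrCharacter G, coef e vB χ ≠ 0 ∧ cval (a : G) χ = cdeg χ := by
  classical
  obtain ⟨-, -, -, -, -, -, -, -, qA, qT, nA, nT, -, -, -, -⟩ := rep_facts
  have sq : ∀ {x : H} {r : Mon}, e x = r → r * r = 1 → (x : G) * x = 1 := fun hx hr =>
    congrArg Subtype.val (show _ * _ = (1 : H) from e.injective (by rw [map_mul, hx, hr, map_one]))
  have hua := sq ea qA
  have hub := sq eb qT
  have typ : ∀ {u h : H}, u * u = 1 → u ≠ 1 → IsConj (u : G) (h : G) →
      (tyA (e h) || tyT (e h)) = true := by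
    intro u h hu hu1 hc
    obtain ⟨c, hc⟩ := isConj_iff.mp hc
    have hu' : (u : G) * u = 1 := congrArg Subtype.val hu
    refine types_of_invol _ ?_ ?_
    · rw [← map_mul, ← map_one e]
      refine congrArg e (Subtype.ext ?_)
      show (h : G) * h = 1
      rw [← hc, show c * u * c⁻¹ * (c * u * c⁻¹) = c * ((u : G) * u) * c⁻¹ by group, hu', mul_one,
        mul_inv_cancel]
    · intro he
      rw [← map_one e] at he
      have h1 := e.injective he
      rw [h1, Subgroup.coe_one, conj_eq_one_iff] at hc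
      exact hu1 (Subtype.ext hc)
  have hAT := S.not_conj_AT ea eb
  have conj_of : ∀ {h0 h : H} {rr : Mon}, e h0 = rr → (∃ c, c * rr * c⁻¹ = e h) →
      IsConj (h0 : G) (h : G) := by
    rintro h0 h rr e0 ⟨c, hc⟩
    obtain ⟨k, rfl⟩ := e.surjective c
    rw [← e0, ← map_inv, ← map_mul, ← map_mul] at hc
    exact isConj_iff.mpr ⟨k, congrArg Subtype.val (e.injective hc)⟩
  have ne : ∀ {x : H} {r : Mon}, e x = r → r ≠ 1 → x ≠ 1 := fun hx hr h => hr (by
    rw [← hx, h, map_one])
  have PA : ∀ h : H, IsConj (a : G) (h : G) ↔ tyA (e h) = true := fun h =>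
    ⟨fun hc => ((Bool.or_eq_true _ _).mp (typ (Subtype.ext hua) (ne ea nA) hc)).resolve_right
      fun y => hAT (hc.trans (conj_of eb ((ty_conj _).2 y)).symm),
      fun h' => conj_of ea ((ty_conj _).1 h')⟩
  have PT : ∀ h : H, IsConj (b : G) (h : G) ↔ tyT (e h) = true := fun h =>
    ⟨fun hc => ((Bool.or_eq_true _ _).mp (typ (Subtype.ext hub) (ne eb nT) hc)).resolve_left
      fun y => hAT ((conj_of ea ((ty_conj _).1 y)).trans hc.symm),
      fun h' => conj_of eb ((ty_conj _).2 h')⟩
  obtain ⟨d1, d2, d3, d4, d5, d6, d7, d8, d9, d10, d11, d12, d13, d14, d15, o1, o2, o3, o4, o5⟩ :=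
    dotM_values
  have mA : vA ∈ mTables := by simp [mTables]
  have mB : vB ∈ mTables := by simp [mTables]
  have mC : vC ∈ mTables := by simp [mTables]
  have mE : vE ∈ mTables := by simp [mTables]
  have mD : vD ∈ mTables := by simp [mTables]
  have hcomm : ∀ f g : IrrCharacter G → ℤ, ∑ k, f k * g k = ∑ k, g k * f k := fun f g =>
    Finset.sum_congr rfl fun _ _ => mul_comm _ _
  have q1 := S.dot mA mA (n := 1944) (by rw [d1]; norm_num)
  have q2 := S.dot mB mB (n := 1944) (by rw [d2]; norm_num)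
  have q3 := S.dot mC mC (n := 2592) (by rw [d3]; norm_num)
  have q4 := S.dot mE mE (n := 2592) (by rw [d4]; norm_num)
  have q5 := S.dot mD mD (n := 1296) (by rw [d5]; norm_num)
  have q6 := S.dot mA mB (n := -648) (by rw [d6]; norm_num)
  have q7 := S.dot mA mC (n := 648) (by rw [d7]; norm_num)
  have q8 := S.dot mB mC (n := 648) (by rw [d8]; norm_num)
  have q9 := S.dot mA mE (n := 648) (by rw [d9]; norm_num)
  have q10 := S.dot mB mE (n := -648) (by rw [d10]; norm_num)
  have q11 := S.dot mC mE (n := 648) (by rw [d11]; norm_num)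
  have q12 := S.dot mA mD (n := 648) (by rw [d12]; norm_num)
  have q13 := S.dot mB mD (n := -648) (by rw [d13]; norm_num)
  have q15 := S.dot mE mD (n := 0) (by rw [d15]; norm_num)
  have t1 := S.dot_one mA (n := 0) (by rw [o1]; norm_num)
  have t2 := S.dot_one mB (n := 0) (by rw [o2]; norm_num)
  have t3 := S.dot_one mC (n := 648) (by rw [o3]; norm_num)
  have t4 := S.dot_one mE (n := 648) (by rw [o4]; norm_num)
  have lin : ∀ {F : Mon → R3}, F ∈ mTables →
      Arith.Lin cdeg (fun χ : IrrCharacter G => cval (a : G) χ - cdeg χ)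
        (fun χ => cval (b : G) χ - cdeg χ) (coef e F) := fun hF =>
    ⟨S.coef_deg hF,
      by simp only [mul_sub, Finset.sum_sub_distrib, S.coef_val hF hua, S.coef_deg hF, sub_zero],
      by simp only [mul_sub, Finset.sum_sub_distrib, S.coef_val hF hub, S.coef_deg hF, sub_zero]⟩
  have hK : (Nat.card {x : G // IsConj (a : G) x} : ℚ) ≠ 0 := by
    haveI : Nonempty {x : G // IsConj (a : G) x} := ⟨⟨_, IsConj.refl _⟩⟩
    exact Nat.cast_ne_zero.mpr Nat.card_pos.ne'
  have forms : ∀ {F : Mon → R3}, F ∈ mTables → ∀ {m11 m12 m22 : ℤ},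
      pairM tyA tyA F = (m11 : R3) → pairM tyA tyT F = (m12 : R3) → pairM tyT tyT F = (m22 : R3) →
      NineD8.Arith.Forms cdeg (coef e F) (fun χ : IrrCharacter G => cval (a : G) χ - cdeg χ)
        (fun χ => cval (b : G) χ - cdeg χ) (Nat.card {x : G // IsConj (a : G) x} : ℚ)
        (Nat.card {x : G // IsConj (b : G) x} : ℚ) (Nat.card G : ℚ)
        ((m11 : ℚ) / 648) ((m12 : ℚ) / 648) ((m22 : ℚ) / 648) := by
    intro F hF m11 m12 m22 h1 h2 h3
    refine ⟨?_, ?_, ?_⟩
    · rw [S.pairs hF hua hua tyA tyA PA PA h1]; ring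
    · rw [S.pairs hF hua hub tyA tyT PA PT h2]; ring
    · rw [S.pairs hF hub hub tyT tyT PT PT h3]; ring
  obtain ⟨a1, a2, a3⟩ := pairM_A
  obtain ⟨b1, b2, b3⟩ := pairM_B
  obtain ⟨c1, c2, c3⟩ := pairM_C
  obtain ⟨f1, f2, f3⟩ := pairM_E
  have fA := forms mA (m11 := 0) (m12 := 0) (m22 := 1944) (by rw [a1]; norm_num)
    (by rw [a2]; norm_num) (by rw [a3]; norm_num)
  have fB := forms mB (m11 := 1944) (m12 := 0) (m22 := 0) (by rw [b1]; norm_num)
    (by rw [b2]; norm_num) (by rw [b3]; norm_num)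
  have fC := forms mC (m11 := 1944) (m12 := 1944) (m22 := 3888) (by rw [c1]; norm_num)
    (by rw [c2]; norm_num) (by rw [c3]; norm_num)
  have fE := forms mE (m11 := 972) (m12 := 972) (m22 := 2916) (by rw [f1]; norm_num)
    (by rw [f2]; norm_num) (by rw [f3]; norm_num)
  norm_num [-Nat.card_eq_fintype_card, -isConj_iff] at fA fB fC fE
  obtain ⟨χ, h1, h2⟩ := Arith.exists_kernel
    (t := CT.trivIrr G) (d := cdeg) (D := coef e vD)
    ⟨cdeg_pos, cdeg_triv, by simp [cval_triv, cdeg_triv], by simp [cval_triv, cdeg_triv],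
      by omega, by omega, by omega, by omega, by omega,
      lin mA, lin mB, lin mC, lin mE, lin mD, by omega, by omega, by omega, by omega,
      by omega, by rw [hcomm]; omega, by rw [hcomm]; omega, by rw [hcomm]; omega,
      by rw [hcomm]; omega, by rw [hcomm]; omega, by rw [hcomm]; omega, by rw [hcomm]; omega,
      by rw [hcomm]; omega, Nat.cast_ne_zero.mpr Nat.card_pos.ne', hK, fA, fB, fC, fE⟩
  exact ⟨χ, h1, sub_eq_zero.mp h2⟩

theorem eq_top (S : Setup H J e) : H = ⊤ := by
  classical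
  obtain ⟨a, ea⟩ := e.surjective rA
  obtain ⟨b, eb⟩ := e.surjective rT
  obtain ⟨χ, hcoef, hval⟩ := S.exists_kernel ea eb
  have hua : (a : G) * a = 1 := congrArg Subtype.val (show a * a = (1 : H) from e.injective (by
    rw [map_mul, ea, map_one]; exact rep_facts.2.2.2.2.2.2.2.2.1))
  have hχ : IsClassFunction G (χ : G → ℂ) := CT.isClassFunction_of_isIrr χ.2
  set N := CT.kerChar (χ : G → ℂ) with hNdef
  haveI hNn : N.Normal := ⟨fun n hn g x => by
    have := hn (g⁻¹ * x * g)
    rw [show x * (g * n * g⁻¹) = g * (g⁻¹ * x * g * n) * g⁻¹ by group, hχ, this]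
    conv_lhs => rw [← hχ (g⁻¹ * x * g) g]
    congr 1
    group⟩
  have haN : (a : G) ∈ N := (CT.mem_kerChar_iff (CT.isCharacter_of_isIrr χ.2)).mpr
    (by rw [cval_eq hua, cdeg_eq, hval])
  have hmem : ∀ {m : Mon}, (e.symm m : G) ∈ N → ∀ {m' : Mon}, (e.symm m' : G) ∈ N →
      (e.symm (m * m') : G) ∈ N := fun {m} h {m'} h' => by
    rw [map_mul, Subgroup.coe_mul]; exact N.mul_mem h h'
  -- the kernel contains the diagonal part
  have hA : ∀ m : Mon, (tyA m || decide (m = 1)) = true → (e.symm m : G) ∈ N := by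
    intro m hm
    simp only [Bool.or_eq_true, decide_eq_true_eq] at hm
    rcases hm with hm | rfl
    · obtain ⟨c, hc⟩ := (ty_conj m).1 hm
      rw [← hc, map_mul, map_mul, map_inv, ← ea, e.symm_apply_apply, Subgroup.coe_mul,
        Subgroup.coe_mul, Subgroup.coe_inv]
      exact hNn.conj_mem _ haN _
    · rw [map_one, Subgroup.coe_one]; exact N.one_mem
  have hdiag : ∀ m : Mon, m.g.1 = 0 → (e.symm m : G) ∈ N := by
    intro m hm
    rw [← diag_split m hm]
    obtain ⟨c1, c1', x1, e1, p1, p1'⟩ := diag_tr _ (wt_axes m.v.1).1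
    obtain ⟨c2, c2', x2, e2, p2, p2'⟩ := diag_tr _ (wt_axes m.v.2.1).2.1
    obtain ⟨c3, c3', x3, e3, p3, p3'⟩ := diag_tr _ (wt_axes m.v.2.2).2.2
    have hg := diag_signs m.g hm
    rw [e1, e2, e3]
    exact hmem (hmem (hmem (hmem (hA _ p1) (hA _ p1')) (hmem (hA _ p2) (hA _ p2')))
      (hmem (hA _ p3) (hA _ p3'))) (hA _ hg)
  -- and nothing more of `H`
  have hout : ∀ h : H, (h : G) ∈ N → (e h).g.1 = 0 := by
    intro h hh
    by_contra hne
    refine hcoef ?_
    obtain ⟨n, hn, hno, hn0⟩ : ∃ n : Mon, (e.symm n : G) ∈ N ∧ pOdd n.g.1 = false ∧ n.g.1 ≠ 0 := by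
      cases hodd : pOdd (e h).g.1
      · exact ⟨e h, by rw [e.symm_apply_apply]; exact hh, hodd, hne⟩
      · obtain ⟨c, c1, c2⟩ := odd_comm _ hodd
        refine ⟨⟨0, c⟩ * e h * (⟨0, c⟩ : Mon)⁻¹ * (e h)⁻¹, ?_, by
          simpa only [mul_g, inv_g] using c1, by simpa only [mul_g, inv_g] using c2⟩
        rw [map_mul, map_mul, map_mul, map_inv, map_inv, e.symm_apply_apply, Subgroup.coe_mul,
          Subgroup.coe_mul, Subgroup.coe_mul, Subgroup.coe_inv, Subgroup.coe_inv]
        exact N.mul_mem (hNn.conj_mem _ hh _) (N.inv_mem hh)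
    have hni : (e.symm n⁻¹ : G) ∈ N := by rw [map_inv, Subgroup.coe_inv]; exact N.inv_mem hn
    have heven : ∀ m : Mon, pOdd m.g.1 = false → (e.symm m : G) ∈ N := by
      intro m hm
      rcases even_quot _ _ hno hn0 hm with h' | h' | h'
      · have := hmem (hdiag (m * n) (by rw [mul_g]; exact h')) hni
        rwa [mul_inv_cancel_right] at this
      · have := hmem (hdiag (m * n⁻¹) (by rw [mul_g, inv_g]; exact h')) hn
        rwa [inv_mul_cancel_right] at this
      · exact hdiag m h'
    have hsum : ∑ h : H, fn e vB h * conj ((χ : G → ℂ) h) = 0 := by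
      have hv : ∀ h : H, fn e vB h * conj ((χ : G → ℂ) h) =
          (if pOdd (e h).g.1 = false then conj ((χ : G → ℂ) 1) * rC (vB (e h)) else 0) +
          (if pOdd (e h).g.1 = true then conj ((χ : G → ℂ) (e.symm rT : G)) * rC (vB (e h))
            else 0) := by
        intro h
        cases hodd : pOdd (e h).g.1
        · have hm := heven _ hodd
          rw [e.symm_apply_apply] at hm
          rw [(CT.mem_kerChar_iff (CT.isCharacter_of_isIrr χ.2)).mp hm]
          simp [fn, mul_comm]
        · have hm := heven (rT⁻¹ * e h) (odd_coset _ hodd)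
          have h2 := hm (e.symm rT : G)
          rw [map_mul, map_inv, e.symm_apply_apply, Subgroup.coe_mul, Subgroup.coe_inv,
            mul_inv_cancel_left] at h2
          rw [h2]
          simp [fn, mul_comm]
      rw [Finset.sum_congr rfl fun h _ => hv h, Finset.sum_add_distrib]
      have hp : ∀ (o : Bool) (c : ℂ), ∑ h : H, (if pOdd (e h).g.1 = o then c * rC (vB (e h)) else 0) =
          c * rC (∑ m ∈ Finset.univ.filter (fun m : Mon => pOdd m.g.1 = o), vB m) := by
        intro o c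
        rw [map_sum, Finset.mul_sum, Finset.sum_filter]
        exact Fintype.sum_equiv e.toEquiv _ _ fun _ => rfl
      rw [hp, hp, sum_parity.1, sum_parity.2, map_zero, mul_zero, mul_zero, add_zero]
    have h' := CT.frobenius_reciprocity H (fn e vB) hχ
    rw [coef_spec S (by simp [mTables]), classInner, hsum, mul_zero] at h'
    exact_mod_cast h'
  have hJN : J ≤ N := fun x hx => by
    have h := (S.hJ ⟨x, S.hJH hx⟩).mp hx
    have := hdiag (e ⟨x, S.hJH hx⟩) (by
      simp only [isTr, decide_eq_true_eq] at h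
      rw [h])
    rwa [e.symm_apply_apply] at this
  -- the descent
  let jH : H.subgroupOf N →* H :=
    { toFun := fun x => ⟨((x : N) : G), x.2⟩, map_one' := rfl, map_mul' := fun _ _ => rfl }
  have h0 : ∀ x : H.subgroupOf N, (e (jH x)).g.1 = 0 := fun x => hout _ (x : N).2
  let ι : H.subgroupOf N →* ThreeCubed.W := MonoidHom.mk' (fun x => toW (e (jH x))) fun x y => by
    rw [map_mul, map_mul, toW_mul _ _ (h0 x) (h0 y)]
  haveI : Fintype N := Fintype.ofFinite _
  haveI : Fintype (H.subgroupOf N) := Fintype.ofFinite _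
  have hS : ThreeCubed.Setup (H.subgroupOf N) (J.subgroupOf N) ι := by
    refine ⟨fun x hx => S.hJH hx, ?_, ?_, ?_, ?_, ?_⟩
    · rw [Nat.card_congr (Subgroup.subgroupOfEquivOfLe hJN).toEquiv, S.card_J]
    · ext x
      rw [Subgroup.mem_normalizer_iff, Subgroup.mem_subgroupOf]
      constructor
      · intro hx
        refine S.mem_H_of_map fun y hy => ?_
        exact (hx ⟨y, hJN hy⟩).mp hy
      · intro hx y
        refine ⟨fun hy => S.conj_mem hx hy, fun hy => ?_⟩
        have hy' : (x : G) * y * (x : G)⁻¹ ∈ J := hy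
        have := S.conj_mem (H.inv_mem hx) hy'
        show (y : G) ∈ J
        simpa [mul_assoc] using this
    · intro t ht ht1 x hx
      refine S.hC _ ht (fun h => ht1 (Subtype.ext h)) ?_
      exact Subgroup.mem_centralizer_singleton_iff.mpr
        (congrArg Subtype.val (Subgroup.mem_centralizer_singleton_iff.mp hx))
    · rw [injective_iff_map_eq_one]
      intro x hx
      have h1 := toW_inj _ (h0 x) hx
      rw [← map_one e] at h1
      have h2 : ((x : N) : G) = 1 := congrArg (fun h : H => (h : G)) (e.injective h1)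
      exact Subtype.ext (Subtype.ext h2)
    · intro w
      constructor
      · rintro ⟨x, rfl⟩
        exact toW_even _ (h0 x)
      · intro hw
        obtain ⟨s, s', v, hv⟩ := toW_range w hw
        refine ⟨⟨⟨(e.symm ⟨v, (0, s, s')⟩ : G), hdiag _ rfl⟩, (e.symm ⟨v, (0, s, s')⟩).2⟩, ?_⟩
        show toW (e (e.symm _)) = w
        rw [e.apply_symm_apply, hv]
  have hNH : N ≤ H := fun x hx => by
    have : (⟨x, hx⟩ : N) ∈ H.subgroupOf N := by rw [hS.eq_top]; exact Subgroup.mem_top _
    exact this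
  exact eq_top_iff.mpr fun g _ => S.mem_H_of_map fun x hx =>
    S.hsc x hx g (hNH (hNn.conj_mem _ (hJN hx) g))

end Setup

end Cfsg.Agent.AltNine
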