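import Mathlib.Data.ZMod.Basic
import Mathlib.Data.Fintype.Prod
import Mathlib.Tactic.DeriveFintype
import Mathlib.NumberTheory.Zsqrtd.Basic
import Mathlib.Algebra.BigOperators.Group.Finset.Basic

/-!
A model of the group `3^3 : S₄`, the normalizer of an elementary subgroup of order 27 in `A₉`.
-/

set_option autoImplicit false

namespace Cfsg.Agent.AltNine

/-- The translations. -/
abbrev V3 := ZMod 3 × ZMod 3 × ZMod 3

/-- Monomial matrices of determinant one: a permutation of the coordinates and the first two signs. -/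
abbrev G4 := Fin 6 × Bool × Bool

/-- The six permutations of three points. -/
def pEval (p : Fin 6) (i : Fin 3) : Fin 3 :=
  (![![0, 1, 2], ![1, 0, 2], ![2, 1, 0], ![0, 2, 1], ![1, 2, 0], ![2, 0, 1]] : Fin 6 → Fin 3 → Fin 3)
    p i

/-- Product of permutations. -/
def pMul (p q : Fin 6) : Fin 6 :=
  (![![0, 1, 2, 3, 4, 5], ![1, 0, 5, 4, 3, 2], ![2, 4, 0, 5, 1, 3], ![3, 5, 4, 0, 2, 1],
    ![4, 2, 3, 1, 5, 0], ![5, 3, 1, 2, 0, 4]] : Fin 6 → Fin 6 → Fin 6) p q

/-- Inverse of a permutation. -/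
def pInv (p : Fin 6) : Fin 6 := (![0, 1, 2, 3, 5, 4] : Fin 6 → Fin 6) p

/-- Odd permutations. -/
def pOdd (p : Fin 6) : Bool := decide (p = 1) || decide (p = 2) || decide (p = 3)

/-- The signs of a monomial matrix. -/
def sgn : G4 → Fin 3 → Bool
  | (p, a, b), i => if i = 0 then a else if i = 1 then b else xor (xor a b) (pOdd p)

/-- Product of monomial matrices. -/
def gMul (g h : G4) : G4 :=
  (pMul g.1 h.1, xor (sgn g 0) (sgn h (pEval (pInv g.1) 0)),
    xor (sgn g 1) (sgn h (pEval (pInv g.1) 1)))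

/-- Inverse of a monomial matrix. -/
def gInv (g : G4) : G4 := (pInv g.1, sgn g (pEval g.1 0), sgn g (pEval g.1 1))

/-- A coordinate. -/
def co (v : V3) (i : Fin 3) : ZMod 3 := if i = 0 then v.1 else if i = 1 then v.2.1 else v.2.2

/-- A signed value. -/
def sv (s : Bool) (x : ZMod 3) : ZMod 3 := if s then -x else x

/-- The action on the translations. -/
def gAct (g : G4) (v : V3) : V3 :=
  (sv (sgn g 0) (co v (pEval (pInv g.1) 0)), sv (sgn g 1) (co v (pEval (pInv g.1) 1)),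
    sv (sgn g 2) (co v (pEval (pInv g.1) 2)))

theorem gMul_assoc : ∀ g h k : G4, gMul (gMul g h) k = gMul g (gMul h k) := by decide +kernel
theorem gMul_one : ∀ g : G4, gMul (0, false, false) g = g ∧ gMul g (0, false, false) = g ∧
    gMul (gInv g) g = (0, false, false) := by decide +kernel
theorem gAct_one : ∀ v : V3, gAct (0, false, false) v = v := by decide +kernel
theorem gAct_mul : ∀ g h : G4, ∀ v : V3, gAct (gMul g h) v = gAct g (gAct h v) := by decide +kernel
theorem gAct_add : ∀ g : G4, ∀ u v : V3, gAct g (u + v) = gAct g u + gAct g v := by decide +kernel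
theorem gAct_zero : ∀ g : G4, gAct g 0 = 0 := by decide +kernel

/-- The group. -/
structure Mon where
  /-- the translation -/
  v : V3
  /-- the monomial matrix -/
  g : G4
  deriving DecidableEq, Fintype

/-- Product. -/
def mmul (x y : Mon) : Mon := ⟨x.v + gAct x.g y.v, gMul x.g y.g⟩

/-- Inverse. -/
def minv (x : Mon) : Mon := ⟨-gAct (gInv x.g) x.v, gInv x.g⟩

instance : Mul Mon := ⟨mmul⟩
instance : One Mon := ⟨⟨0, (0, false, false)⟩⟩
instance : Inv Mon := ⟨minv⟩

theorem mul_def (x y : Mon) : x * y = mmul x y := rfl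
theorem one_def : (1 : Mon) = ⟨0, (0, false, false)⟩ := rfl
theorem inv_def (x : Mon) : x⁻¹ = minv x := rfl

instance : Group Mon where
  mul_assoc := by
    rintro ⟨u, g⟩ ⟨v, h⟩ ⟨w, k⟩
    simp only [mul_def, mmul, gMul_assoc, gAct_add, gAct_mul, add_assoc]
  one_mul := by
    rintro ⟨u, g⟩
    simp only [mul_def, one_def, mmul, gAct_one, (gMul_one g).1, zero_add]
  mul_one := by
    rintro ⟨u, g⟩
    simp only [mul_def, one_def, mmul, gAct_zero, (gMul_one g).2.1, add_zero]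
  inv_mul_cancel := by
    rintro ⟨u, g⟩
    simp only [mul_def, inv_def, one_def, minv, mmul, (gMul_one g).2.2, neg_add_cancel]

/-- Number of nonzero coordinates. -/
def wt (v : V3) : ℕ :=
  (if v.1 = 0 then 0 else 1) + (if v.2.1 = 0 then 0 else 1) + (if v.2.2 = 0 then 0 else 1)

/-- The translations as elements. -/
def isTr (m : Mon) : Bool := decide (m.g = (0, false, false))

/-- The first involution class. -/
def tyA (m : Mon) : Bool := decide (m.g.1 = 0) && decide (m * m = 1) && decide (m ≠ 1)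
/-- The second involution class. -/
def tyT (m : Mon) : Bool := decide (m.g.1 ≠ 0) && decide (m * m = 1)

/-- The coordinate fixed by a transposition. -/
def fixPt (p : Fin 6) : Fin 3 := if p = 1 then 2 else if p = 2 then 1 else 0

/-- The invariant of the elements of order twelve. -/
def orient4 (m : Mon) : ZMod 3 :=
  sv (xor (sgn m.g (if fixPt m.g.1 = 0 then 1 else 0)) (decide (fixPt m.g.1 = 1)))
    (co m.v (fixPt m.g.1))

/-- The invariant of the elements of order nine. -/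
def orient3 (m : Mon) : ZMod 3 :=
  sv (decide (m.g.1 ≠ 4)) ((m * m * m).v.1 * (m * m * m).v.2.1 * (m * m * m).v.2.2)

/-- The classes on which the tables are supported. -/
def kind (m : Mon) : ℕ :=
  if m.g = (0, false, false) then wt m.v
  else if m.g.1 = 0 then (if m * m = 1 then 0 else 5)
  else if pOdd m.g.1 then
    (if gMul m.g m.g = (0, false, false) then (if m * m = 1 then 0 else 7)
      else if orient4 m = 1 then 9 else if orient4 m = 2 then 10 else 0)
  else if orient3 m = 2 then 13 else 0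

/-- The coefficient ring. -/
abbrev R3 := Zsqrtd 3

/-- Table `A`. -/
def vA (m : Mon) : R3 :=
  match kind m with
  | 1 => ⟨3, 0⟩ | 2 => ⟨6, 0⟩ | 3 => ⟨9, 0⟩ | 5 => ⟨-3, 0⟩ | 9 => ⟨0, 1⟩ | 10 => ⟨0, -1⟩
  | _ => 0

/-- Table `B`. -/
def vB (m : Mon) : R3 :=
  match kind m with
  | 1 => ⟨9, 0⟩ | 5 => ⟨3, 0⟩ | 9 => ⟨0, -1⟩ | 10 => ⟨0, 1⟩ | 13 => ⟨-3, 0⟩
  | _ => 0

/-- Table `C`. -/
def vC (m : Mon) : R3 :=
  match kind m with
  | 1 => ⟨3, 0⟩ | 2 => ⟨6, 0⟩ | 3 => ⟨9, 0⟩ | 5 => ⟨3, 0⟩ | 9 => ⟨3, 0⟩ | 10 => ⟨3, 0⟩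
  | _ => 0

/-- Table `E`. -/
def vE (m : Mon) : R3 :=
  match kind m with
  | 2 => ⟨9, 0⟩ | 7 => ⟨3, 0⟩ | 13 => ⟨3, 0⟩
  | _ => 0

/-- Table `D`. -/
def vD (m : Mon) : R3 :=
  match kind m with
  | 9 => ⟨0, 2⟩ | 10 => ⟨0, -2⟩
  | _ => 0

/-- Dot product. -/
def dotM (F F' : Mon → R3) : R3 := ∑ m : Mon, F m * F' m

/-- Pair sum. -/
def pairM (P Q : Mon → Bool) (F : Mon → R3) : R3 :=
  ∑ y ∈ Finset.univ.filter (fun m : Mon => P m = true),
    ∑ z ∈ Finset.univ.filter (fun m : Mon => Q m = true), F (y * z)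

theorem dotM_values :
    dotM vA vA = 1944 ∧ dotM vB vB = 1944 ∧ dotM vC vC = 2592 ∧ dotM vE vE = 2592 ∧
    dotM vD vD = 1296 ∧ dotM vA vB = -648 ∧ dotM vA vC = 648 ∧ dotM vB vC = 648 ∧
    dotM vA vE = 648 ∧ dotM vB vE = -648 ∧ dotM vC vE = 648 ∧ dotM vA vD = 648 ∧
    dotM vB vD = -648 ∧ dotM vC vD = 0 ∧ dotM vE vD = 0 ∧
    dotM vA (fun _ => 1) = 0 ∧ dotM vB (fun _ => 1) = 0 ∧ dotM vC (fun _ => 1) = 648 ∧
    dotM vE (fun _ => 1) = 648 ∧ dotM vD (fun _ => 1) = 0 := by decide +kernel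

theorem pairM_A :
    pairM tyA tyA vA = 0 ∧ pairM tyA tyT vA = 0 ∧ pairM tyT tyT vA = 1944 := by decide +kernel

theorem pairM_B :
    pairM tyA tyA vB = 1944 ∧ pairM tyA tyT vB = 0 ∧ pairM tyT tyT vB = 0 := by decide +kernel

theorem pairM_C :
    pairM tyA tyA vC = 1944 ∧ pairM tyA tyT vC = 1944 ∧ pairM tyT tyT vC = 3888 := by
  decide +kernel

theorem pairM_E :
    pairM tyA tyA vE = 972 ∧ pairM tyA tyT vE = 972 ∧ pairM tyT tyT vE = 2916 := by decide +kernel

end Cfsg.Agent.AltNine
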